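import Cfsg.Agent.H856.TwoEleven
import Cfsg.Agent.J4Type.DuadCent
set_option linter.all false

/-!
# J₄ type: the orbits of `N_G(E)` on `E`, and transport by conjugation (helper857)
-/

set_option autoImplicit false

open scoped Pointwise

namespace Cfsg.Agent.H857.Orbits

open Cfsg Cfsg.Agent.J4Type Cfsg.Agent.J4Type.CloseInst

variable {G : Type*} [Group G]

/-! ### transport -/

theorem mem_smul_iff {V : Subgroup G} {g a : G} : a ∈ MulAut.conj g • V ↔ g⁻¹ * a * g ∈ V := by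
  rw [Subgroup.mem_pointwise_smul_iff_inv_smul_mem, ← map_inv, MulAut.smul_def, MulAut.conj_apply,
    inv_inv]

theorem conj_mem_smul {V : Subgroup G} {g a : G} : g * a * g⁻¹ ∈ MulAut.conj g • V ↔ a ∈ V := by
  rw [mem_smul_iff]
  have : g⁻¹ * (g * a * g⁻¹) * g = a := by group
  rw [this]

theorem mem_normalizer_smul {V : Subgroup G} {g n : G} :
    n ∈ Subgroup.normalizer ((MulAut.conj g • V : Subgroup G) : Set G) ↔
      g⁻¹ * n * g ∈ Subgroup.normalizer (V : Set G) := by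
  rw [Subgroup.mem_normalizer_iff, Subgroup.mem_normalizer_iff]
  constructor
  · intro h a
    have h1 := h (g * a * g⁻¹)
    change g * a * g⁻¹ ∈ (MulAut.conj g • V : Subgroup G) ↔
      n * (g * a * g⁻¹) * n⁻¹ ∈ (MulAut.conj g • V : Subgroup G) at h1
    rw [conj_mem_smul, mem_smul_iff] at h1
    have : g⁻¹ * (n * (g * a * g⁻¹) * n⁻¹) * g = g⁻¹ * n * g * a * (g⁻¹ * n * g)⁻¹ := by group
    rw [this] at h1
    exact h1
  · intro h a
    have h1 := h (g⁻¹ * a * g)
    change g⁻¹ * a * g ∈ V ↔ g⁻¹ * n * g * (g⁻¹ * a * g) * (g⁻¹ * n * g)⁻¹ ∈ V at h1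
    show a ∈ (MulAut.conj g • V : Subgroup G) ↔ n * a * n⁻¹ ∈ (MulAut.conj g • V : Subgroup G)
    rw [mem_smul_iff, mem_smul_iff, h1]
    have : g⁻¹ * n * g * (g⁻¹ * a * g) * (g⁻¹ * n * g)⁻¹ = g⁻¹ * (n * a * n⁻¹) * g := by group
    rw [this]

/-- the orbit of an element under the normaliser of a subgroup -/
def orb (V : Subgroup G) (a : G) : Set G :=
  {v : G | ∃ n ∈ Subgroup.normalizer (V : Set G), n * a * n⁻¹ = v}

theorem orb_smul (V : Subgroup G) (g a : G) :
    orb (MulAut.conj g • V) (g * a * g⁻¹) = (fun x => g * x * g⁻¹) '' orb V a := by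
  ext v
  constructor
  · rintro ⟨n, hn, rfl⟩
    refine ⟨(g⁻¹ * n * g) * a * (g⁻¹ * n * g)⁻¹, ⟨_, mem_normalizer_smul.1 hn, rfl⟩, ?_⟩
    show g * ((g⁻¹ * n * g) * a * (g⁻¹ * n * g)⁻¹) * g⁻¹ = _
    group
  · rintro ⟨_, ⟨n, hn, rfl⟩, rfl⟩
    refine ⟨g * n * g⁻¹, ?_, ?_⟩
    · rw [mem_normalizer_smul]
      have : g⁻¹ * (g * n * g⁻¹) * g = n := by group
      rwa [this]
    · show _ = g * (n * a * n⁻¹) * g⁻¹
      group

theorem ncard_orb_smul (V : Subgroup G) (g a : G) :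
    (orb (MulAut.conj g • V) (g * a * g⁻¹)).ncard = (orb V a).ncard := by
  rw [orb_smul]
  apply Set.ncard_image_of_injective
  intro x y h
  exact mul_left_cancel (mul_right_cancel h)

/-! ### the orbits on `E` -/

section

variable (K : Frame G)

/-- the duads in `E` -/
def duads : Set G := {v | ∃ p q : GolayPt, p ≠ q ∧ v = K.ε {p, q}}

theorem ε_pair_inj {S T : Finset GolayPt} (hS : S.card = 2) (hT : T.card = 2)
    (h : K.ε S = K.ε T) : S = T := by
  apply DuadUniq.ε_inj K (by rw [hS]; decide) (by rw [hT]; decide) _ h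
  have h1 := Finset.card_le_card (Finset.symmDiff_subset_union (s := S) (t := T))
  have h2 := Finset.card_union_le S T
  omega

theorem ncard_duads : (duads K).ncard = 276 := by
  classical
  have h1 : duads K = ((Finset.powersetCard 2 (Finset.univ : Finset GolayPt)).image K.ε : Set G) := by
    ext v
    simp only [duads, Set.mem_ofPred_eq, Finset.coe_image, Set.mem_image, Finset.mem_coe,
      Finset.mem_powersetCard_univ]
    constructor
    · rintro ⟨p, q, hpq, rfl⟩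
      exact ⟨{p, q}, Finset.card_pair hpq, rfl⟩
    · rintro ⟨S, hS, rfl⟩
      obtain ⟨p, q, hpq, rfl⟩ := Finset.card_eq_two.1 hS
      exact ⟨p, q, hpq, rfl⟩
  rw [h1, Set.ncard_coe_finset, Finset.card_image_of_injOn, Finset.card_powersetCard,
    Finset.card_univ, HexMax.card24]
  · decide
  · intro S hS T hT h
    rw [Finset.mem_coe, Finset.mem_powersetCard_univ] at hS hT
    exact ε_pair_inj K hS hT h

theorem orb_duad {p q : GolayPt} (hpq : p ≠ q) : orb (K.E hex0) (K.ε {p, q}) = duads K := by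
  ext v
  constructor
  · rintro ⟨n, hn, rfl⟩
    have h1 := K.π_smul ⟨n, hn⟩ {p, q} (by rw [Finset.card_pair hpq]; decide)
    refine ⟨(K.π ⟨n, hn⟩ : Equiv.Perm GolayPt) p, (K.π ⟨n, hn⟩ : Equiv.Perm GolayPt) q,
      fun h => hpq ((K.π ⟨n, hn⟩ : Equiv.Perm GolayPt).injective h), ?_⟩
    have h2 : (K.π ⟨n, hn⟩ : Equiv.Perm GolayPt) • ({p, q} : Finset GolayPt) =
        {(K.π ⟨n, hn⟩ : Equiv.Perm GolayPt) p, (K.π ⟨n, hn⟩ : Equiv.Perm GolayPt) q} := by
      rw [Finset.smul_finset_insert, Finset.smul_finset_singleton]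
      rfl
    rw [← h2, ← h1]
  · rintro ⟨r, s, hrs, rfl⟩
    obtain ⟨n, hn, h⟩ := conj_duad K hpq hrs
    exact ⟨n, hn, h⟩

theorem mem_orb_z {v : G} : v ∈ orb (K.E hex0) K.z ↔ v ∈ K.E hex0 ∧ v ≠ 1 ∧ v ∉ duads K := by
  constructor
  · rintro ⟨n, hn, rfl⟩
    refine ⟨?_, ?_, ?_⟩
    · exact ((Subgroup.mem_normalizer_iff.1 hn) K.z).1 (K.z_mem_E hex0 HexMax.hex0_isHex)
    · intro h
      apply z_ne_one K
      calc K.z = n⁻¹ * (n * K.z * n⁻¹) * n := by group
        _ = 1 := by rw [h]; group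
    · rintro ⟨p, q, hpq, h⟩
      exact K.duad_not_conj p q hpq (isConj_iff.2 ⟨n, h⟩)
  · rintro ⟨h1, h2, h3⟩
    rcases E_cases K h1 with h | ⟨i, j, hij, h⟩ | ⟨S, hS, h⟩
    · exact absurd h h2
    · exact absurd ⟨i, j, hij, h⟩ h3
    · obtain ⟨n, hn, hnS⟩ := conj_sextet K S hS
      exact ⟨n, hn, by rw [hnS, h]⟩

theorem ncard_orb_z [Finite G] : (orb (K.E hex0) K.z).ncard = 1771 := by
  have h1 : ((K.E hex0 : Subgroup G) : Set G) = insert 1 (duads K ∪ orb (K.E hex0) K.z) := by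
    ext v
    rw [Set.mem_insert_iff, Set.mem_union, mem_orb_z]
    constructor
    · intro hv
      by_cases h : v = 1
      · exact Or.inl h
      · by_cases h' : v ∈ duads K
        · exact Or.inr (Or.inl h')
        · exact Or.inr (Or.inr ⟨hv, h, h'⟩)
    · rintro (rfl | ⟨p, q, hpq, rfl⟩ | h)
      · exact (K.E hex0).one_mem
      · exact K.ε_mem _ (by rw [Finset.card_pair hpq]; decide)
      · exact h.1
  have h2 : ((K.E hex0 : Subgroup G) : Set G).ncard = 2 ^ 11 := K.E_card hex0 HexMax.hex0_isHex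
  have h3 : (1 : G) ∉ duads K ∪ orb (K.E hex0) K.z := by
    rintro (⟨p, q, hpq, h⟩ | h)
    · have h4 := (K.ε_ker {p, q} (by rw [Finset.card_pair hpq]; decide)).1 h.symm
      have h5 := SporadicA.GolayBase.card_of_mem_supports h4
      rw [Finset.card_pair hpq] at h5
      omega
    · exact ((mem_orb_z K).1 h).2.1 rfl
  have h4 : Disjoint (duads K) (orb (K.E hex0) K.z) := by
    rw [Set.disjoint_left]
    intro v hv hv'
    exact ((mem_orb_z K).1 hv').2.2 hv
  rw [h1, Set.ncard_insert_of_notMem h3 (Set.toFinite _), Set.ncard_union_eq h4 (Set.toFinite _)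
    (Set.toFinite _), ncard_duads] at h2
  omega

end

end Cfsg.Agent.H857.Orbits
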