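import Cfsg.Agent.J4.Invol
import Cfsg.Agent.J4Type.TauMask
import Cfsg.Agent.J4Type.FusionFact
import Cfsg.Agent.J4Type.CocodeAct
import Cfsg.Agent.J4Type.DuadM24
import Cfsg.Agent.J4Type.DuadCent
import Cfsg.Agent.J4Type.FusionM22
import Cfsg.Agent.J4Type.FusionCent
import Cfsg.Agent.H857.Orbits
import Cfsg.Agent.J4Type.OctadFixTrans
set_option linter.all false

-- part: H857/T10Data
section
/-!
# J₄: words for the transvections of `L₅(2)` and for a basis of the subgroup `2^10` (helper857)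

Letters: 0 = s, 1 = x, 2 = y, 3 = y⁻¹, 4 = t.  `ws` has 50 entries: entry `5 * i + j` is the transvection
`x i j` (`i ≠ j`), entry `25 + 5 * k + l` is the element `e k l` (`k ≠ l`) of the subgroup `2^10`.
-/

set_option autoImplicit false

namespace Cfsg.Agent.H857.T10Data

/-- packed matrix of `s` -/
def S : ℕ := nat_lit 5418112030387395472613848624132392410521290922014094487480114685306613507666928343192922031670038687506308904841843528336721031499715419343728926746558661243356021655008365588896521009305654376890117969344559301728224745201645857036294855620428466650547902815372173241403563566791573840886759559830496284277949392360211161386816720162615501744433357745851915131556921544861942711097631846496773697587475666233672983327827347726761082974875413234458652402378734565809761697659076212938313481949586612136748325214488815648588997415792640999118704740072649603756575025149460161656786754699375049072923854498120624573334669193921607136821431863177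283113849071333820539292214877238926066791417246830232338016991481877521386159324267100684968900652963456310669384859148925757536783285292181382515753000379288893719541286579138616306577204671084680249690232373035843716952422258738166065929313081498167965133028219485356124891511632947425735077860019683701607844596351805492101579582772737906077670297538149619491045935924824760679348254495619844327872562726684442625220441836278777013062205619688295499097194374386153850380817603308257940627745847623266286226989483283011995585616641004787747504232900169283488830838441609588887322258321901935543624684254976508411877108903780814609903722125662647812702760760344327961606614798968536283049551323335248521044144970662736064960382354364467910986320309026856382439097764801292324887412296168388838327434142493349641461972716532573418176589781801389016863865375805206159387934965695182279116532463080665989040421901011718826203744397600178035809504773218092707369942515645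459586248339997386420140783335720841042480716365027110147340463148039111732397389216376237337788903926933130963416483624864297482545959711197086271303322552305073379136641621558395600315028185722781011479864184165017742527317689389541171380298523165744607690886156954562192334623594320555077542884119811098814748140785853071766300278255528811719208547791948177515113146257793035525530494177915822279923656967264073153039152579963351798615877209737362828532797865225526001022261191005686563282212419384085041593176760523999249322832107538553621832119146901222647461324854618221289445841199756341021112499956318592360063649646703981527312351107086622687374111811685160935240312299429373034163178354836578259085928485094921827278428548165261431604115126517645129876244397684510746256514154769532118839720336732830488325598408884167653681193679375880886256648394251325362677864894922885912812419236258532784421046193835035224500883879685598218292549113043625045268906399204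0995085148896034321240792048989477303839302841573432713370225857397274172634330667970877122028914328565269051341829062523990457560659099947571265424788650757745347328586487963202268368129168220540646018453493518787055262998929736571978430624505236387410343260948479918740030059831660393157554256194943250570275256728101760112814056802516407651373371288481853325351067743947993117803519939364463928635002148987297972791074294643063388169270348685919366221589079902542654710461991562342178690879287041320142649244434271592319923644538270187043319620211208054068665599108152354940407300107230629877518114249422084590890658413848238650368139781130050071518654260922141762127567093533363973689671950026045193376385498312353052095105886142521366984793743842119682480914947754737467492739112135198559640507452683093298169277842182961609422564547474016160803695047373466352178635020855591224296011923035481937573417548956822422965236880036181570560183993952351590090679473190818884831121811292168141509815017797377898806565967515138219495116342147711847484325383747277082000418655430835079998425287232993844662138118945497816627910868664498536983842977311158016332811774976605673517067667393370111593440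

/-- the words -/
def ws : List (List ℕ) := [
  [],
  [1, 2, 1, 3, 1, 2, 1, 2, 1, 3, 1, 3, 1, 3, 1, 2, 1, 2, 1, 2, 1, 2, 1, 3, 1, 3, 1, 3, 1, 2, 1, 2, 1, 2, 1, 2, 1, 2, 1, 2, 1, 2, 1, 3, 1, 2, 1, 2, 1, 3, 1, 2],
  [1, 3, 1, 3, 1, 2, 1, 2, 1, 3, 1, 2, 1, 2, 1, 3, 1, 3, 1, 3, 1, 3, 1, 2, 1, 2, 1, 2, 1, 2, 1, 2, 1, 3, 1, 2, 1, 2, 1, 2, 1, 2, 1, 3, 1, 3, 1, 2],
  [1, 2, 1, 3, 1, 2, 1, 2, 1, 2, 1, 2, 1, 3, 1, 2, 1, 3, 1, 3, 1, 2, 1, 2, 1, 3, 1, 2, 1, 3, 1, 2, 1, 3, 1, 2, 1, 3, 1],
  [1, 0, 1, 3, 1, 3, 1, 0, 1, 2, 1, 2, 2, 1, 3, 1, 2, 1, 2, 1, 2, 1, 2, 1, 3, 1, 2, 1, 3, 1, 3, 1, 2, 1, 2, 1, 3, 1, 2, 1, 3, 1, 2, 1, 3, 1, 2, 1, 3],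
  [2, 1, 3, 1, 2, 1, 2, 1, 2, 1, 3, 1, 3, 1, 2, 1, 2, 1, 2, 1, 2, 1, 2, 1, 3, 1, 3, 1, 3, 1, 3, 1, 2, 1, 2, 1, 2, 1, 2, 1, 2, 1, 3, 1, 2, 1, 2, 1, 3],
  [],
  [1, 3, 1, 2, 1, 2, 1, 3, 1, 2, 1, 3, 1, 2, 1, 2, 1, 3, 1, 2, 1, 2, 1, 2, 1, 2, 1, 2, 1, 3, 1, 2, 1, 3, 1, 2, 1, 2, 1],
  [2, 1, 2, 1, 2, 1, 3, 1, 2, 1, 2, 1, 2, 1, 3, 1, 3, 1, 2, 1, 3, 1, 2, 1, 3, 1, 3, 1, 3, 1, 3, 1, 2, 1, 2, 1, 2, 1, 3, 1, 3, 1, 3, 1, 3, 1, 2, 1, 2, 1],
  [3, 1, 0, 1, 2, 1, 3, 1, 2, 1, 3, 1, 2, 1, 0, 1, 3, 1, 2, 1, 3, 1, 2, 1, 3, 1, 3, 1, 2, 1, 2, 1, 2, 1, 3, 1, 3, 1, 2, 1, 3, 1, 3, 1, 3, 1, 2, 1, 3, 1, 2, 1, 2, 1, 2, 1, 3, 1, 3, 1, 2, 1, 3, 1, 3, 1, 3, 1, 3],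
  [1, 2, 1, 2, 1, 2, 1, 2, 1, 3, 1, 3, 1, 2, 1, 3, 1, 3, 1, 2, 1, 3, 1, 2, 1, 2, 1, 2, 1, 2, 1, 2, 1, 3, 1, 3, 1, 3, 1, 3, 1, 3, 1, 2, 1, 2, 1, 2, 1, 2, 1],
  [2, 1, 2, 1, 3, 1, 3, 1, 2, 1, 2, 1, 3, 1, 2, 1, 2, 1, 2, 1, 3, 1, 2, 1, 2, 1, 3, 1, 3, 1, 2, 1, 2, 1, 2, 1, 3, 1, 3, 1],
  [],
  [3, 1, 2, 1, 2, 1, 2, 1, 3, 1, 3, 1, 2, 1, 3, 1, 2, 1, 2, 1, 3, 1, 2, 1, 3, 1, 2, 1, 3, 1, 2, 1, 2, 1, 2, 1, 3, 1, 2, 1, 2, 1, 3, 1, 2, 1, 2, 1],
  [2, 1, 2, 1, 2, 1, 2, 1, 0, 1, 3, 1, 3, 1, 3, 0, 1, 3, 1, 3, 1, 2, 1, 2, 1, 2, 1, 3, 1, 3, 1, 2, 1, 3, 1, 2, 1, 2, 1, 3, 1, 2, 1, 3, 1, 2, 1, 3, 1, 2, 1, 2, 1, 2, 1, 3, 1, 2, 1, 2, 1, 3, 1, 2, 1, 2],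
  [2, 1, 2, 1, 3, 1, 2, 1, 2, 1, 3, 1, 3, 1, 3, 1, 2, 1, 2, 1, 3, 1, 3, 1, 2, 1, 3, 1, 3, 1, 3, 1, 2, 1, 3, 1, 3, 1, 2, 1, 2, 1, 2, 1, 3],
  [1, 3, 1, 2, 1, 2, 1, 3, 1, 3, 1, 2, 1, 2, 1, 2, 1, 2, 1, 3, 1, 3, 1, 3, 1, 2, 1, 2, 1, 3, 1, 2, 1, 2, 1, 2, 1, 3, 1, 3, 1, 3, 1],
  [1, 2, 1, 2, 1, 2, 1, 3, 1, 2, 1, 3, 1, 3, 1, 2, 1, 2, 1, 3, 1, 3, 1, 2, 1, 3, 1, 2, 1, 2, 1, 2, 1, 3, 1, 2, 1, 2, 1, 2, 1, 3, 1, 2, 1, 2, 1, 2],
  [],
  [1, 0, 1, 3, 1, 2, 1, 3, 1, 2, 1, 2, 1, 3, 1, 2, 1, 0, 1, 3, 1, 2, 1, 3, 1, 3, 1, 2, 1, 3, 1, 2, 1, 2, 1, 3, 1, 3, 1, 2, 1, 2, 1, 2, 1, 2, 1, 2, 1, 2, 1, 3, 1, 3, 1, 2, 1, 2, 1, 3, 1, 2, 1, 2, 1, 2, 1, 3, 1, 2, 1, 2, 1, 2, 1, 2, 1, 2, 1],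
  [2, 1, 3, 1, 2, 1, 2, 1, 2, 1, 3, 1, 2, 1, 3, 1, 2, 1, 3, 1, 2, 1, 2, 1, 3, 1, 3, 1, 2, 1, 2, 1, 2, 1, 3, 1, 2, 1, 3, 1, 2, 1, 2, 1, 3, 1, 2, 1, 2, 1, 2, 1, 2, 4, 3, 1, 3, 1, 3, 1, 3, 1, 2, 1, 3, 1, 3, 1, 2, 1, 3, 1, 2, 1, 3, 1, 3, 1, 3, 1, 2, 1, 2, 1, 3, 1, 3, 1, 2, 1, 3, 1, 2, 1, 3, 1, 2, 1, 3, 1, 3, 1, 3, 1, 2, 1, 3],
  [1, 2, 1, 2, 1, 2, 1, 2, 1, 2, 1, 2, 1, 3, 1, 3, 1, 3, 1, 3, 1, 2, 1, 3, 1, 2, 1, 3, 1, 2, 1, 2, 1, 2, 1, 2, 1, 3, 1, 3, 1, 3, 1, 3, 1, 3, 1, 2, 1, 3, 1, 2, 1, 2, 1, 4, 1, 3, 1, 3, 1, 2, 1, 3, 1, 2, 1, 2, 1, 2, 1, 2, 1, 2, 1, 3, 1, 3, 1, 3, 1, 3, 1, 2, 1, 3, 1, 2, 1, 3, 1, 2, 1, 2, 1, 2, 1, 2, 1, 3, 1, 3, 1, 3, 1, 3, 1, 3, 1, 3, 1],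
  [1, 3, 1, 2, 1, 2, 1, 3, 1, 3, 1, 2, 1, 3, 1, 3, 1, 3, 1, 3, 1, 3, 1, 2, 1, 2, 1, 3, 1, 3, 1, 2, 1, 3, 1, 3, 1, 3, 1, 2, 1, 2, 1, 3, 1, 3, 1, 3, 1, 2, 1, 2, 1, 2, 1, 4, 1, 3, 1, 3, 1, 3, 1, 2, 1, 2, 1, 2, 1, 3, 1, 3, 1, 2, 1, 2, 1, 2, 1, 3, 1, 2, 1, 2, 1, 3, 1, 3, 1, 2, 1, 2, 1, 2, 1, 2, 1, 2, 1, 3, 1, 2, 1, 2, 1, 3, 1, 3, 1, 2, 1],
  [4],
  [],
  [],
  [2, 1, 2, 1, 2, 1, 3, 1, 3, 1, 3, 1, 0, 1, 2, 1, 2, 1, 2, 1, 3, 1, 3, 1, 3],
  [3, 1, 3, 1, 3, 1, 2, 1, 3, 1, 2, 1, 3, 1, 0, 1, 2, 1, 3, 1, 2, 1, 3, 1, 2, 1, 2, 1, 2],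
  [1, 3, 1, 2, 1, 2, 1, 2, 1, 3, 1, 2, 1, 0, 1, 3, 1, 2, 1, 3, 1, 3, 1, 3, 1, 2, 1],
  [2, 1, 3, 1, 2, 1, 2, 1, 2, 1, 2, 1, 3, 1, 2, 1, 3, 1, 3, 1, 2, 1, 2, 1, 3, 1, 2, 1, 3, 1, 2, 1, 3, 1, 2, 1, 3],
  [2, 1, 2, 1, 2, 1, 3, 1, 3, 1, 3, 1, 0, 1, 2, 1, 2, 1, 2, 1, 3, 1, 3, 1, 3],
  [],
  [2, 1, 2, 1, 2, 1, 2, 1, 3, 1, 0, 1, 2, 1, 3, 1, 3, 1, 3, 1, 3],
  [3, 1, 3, 1, 3, 1, 2, 1, 3, 1, 3, 1, 3, 1, 2, 1, 3, 1, 0, 1, 2, 1, 3, 1, 2, 1, 2, 1, 2, 1, 3, 1, 2, 1, 2, 1, 2],
  [3, 1, 3, 1, 2, 1, 2, 1, 2, 1, 3, 1, 3, 1, 2, 1, 3, 1, 3, 1, 3, 1, 2, 1, 3, 1, 2, 1, 2, 1, 2, 1, 3, 1, 3, 1, 2, 1, 3, 1, 3, 1, 3, 1, 3],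
  [3, 1, 3, 1, 3, 1, 2, 1, 3, 1, 2, 1, 3, 1, 0, 1, 2, 1, 3, 1, 2, 1, 3, 1, 2, 1, 2, 1, 2],
  [2, 1, 2, 1, 2, 1, 2, 1, 3, 1, 0, 1, 2, 1, 3, 1, 3, 1, 3, 1, 3],
  [],
  [1, 2, 1, 2, 1, 3, 1, 3, 1, 2, 1, 3, 1, 2, 1, 2, 1, 3, 1, 2, 1, 0, 1, 3, 1, 2, 1, 3, 1, 3, 1, 2, 1, 3, 1, 2, 1, 2, 1, 3, 1, 3, 1],
  [1, 3, 1, 2, 1, 2, 1, 2, 1, 3, 1, 3, 1, 2, 1, 3, 1, 2, 1, 2, 1, 3, 1, 2, 1, 3, 1, 2, 1, 3, 1, 2, 1, 2, 1, 2, 1, 3, 1, 2, 1, 2, 1, 3, 1, 2, 1, 2],
  [1, 3, 1, 2, 1, 2, 1, 2, 1, 3, 1, 2, 1, 0, 1, 3, 1, 2, 1, 3, 1, 3, 1, 3, 1, 2, 1],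
  [3, 1, 3, 1, 3, 1, 2, 1, 3, 1, 3, 1, 3, 1, 2, 1, 3, 1, 0, 1, 2, 1, 3, 1, 2, 1, 2, 1, 2, 1, 3, 1, 2, 1, 2, 1, 2],
  [1, 2, 1, 2, 1, 3, 1, 3, 1, 2, 1, 3, 1, 2, 1, 2, 1, 3, 1, 2, 1, 0, 1, 3, 1, 2, 1, 3, 1, 3, 1, 2, 1, 3, 1, 2, 1, 2, 1, 3, 1, 3, 1],
  [],
  [1, 2, 1, 3, 1, 3, 1, 2, 1, 2, 1, 2, 1, 2, 1, 2, 1, 2, 1, 3, 1, 3, 1, 2, 1, 2, 1, 3, 1, 2, 1, 2, 1, 2, 1, 3, 1, 2, 1, 2, 1, 2, 1, 2, 1, 2, 1],
  [2, 1, 3, 1, 2, 1, 2, 1, 2, 1, 2, 1, 3, 1, 2, 1, 3, 1, 3, 1, 2, 1, 2, 1, 3, 1, 2, 1, 3, 1, 2, 1, 3, 1, 2, 1, 3],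
  [3, 1, 3, 1, 2, 1, 2, 1, 2, 1, 3, 1, 3, 1, 2, 1, 3, 1, 3, 1, 3, 1, 2, 1, 3, 1, 2, 1, 2, 1, 2, 1, 3, 1, 3, 1, 2, 1, 3, 1, 3, 1, 3, 1, 3],
  [1, 3, 1, 2, 1, 2, 1, 2, 1, 3, 1, 3, 1, 2, 1, 3, 1, 2, 1, 2, 1, 3, 1, 2, 1, 3, 1, 2, 1, 3, 1, 2, 1, 2, 1, 2, 1, 3, 1, 2, 1, 2, 1, 3, 1, 2, 1, 2],
  [1, 2, 1, 3, 1, 3, 1, 2, 1, 2, 1, 2, 1, 2, 1, 2, 1, 2, 1, 3, 1, 3, 1, 2, 1, 2, 1, 3, 1, 2, 1, 2, 1, 2, 1, 3, 1, 2, 1, 2, 1, 2, 1, 2, 1, 2, 1],
  []]

end Cfsg.Agent.H857.T10Data
end

-- part: H857/Fix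
section
/-!
# Fixed points of involutions of `M24` on the even Golay cocode (helper857)

`IsW O s` : the mask `s` is that of an even subset of the octad `O`.

* `fix_cases` : an element of the cocode fixed by an involution `u` fixing the octad `O` pointwise is in `W(O)` or
  in `W(O) + {p, u p}`, for every `p` outside `O`;
* `card_fixed_le` : a fixed point free involution fixes at most 64 elements of the even cocode.
-/

set_option autoImplicit false

open scoped Pointwise

namespace Cfsg.Agent.H857.Fix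

open Cfsg Cfsg.Agent.SporadicA.GolayBase Cfsg.Agent.SporadicA.GolayPerm
open Cfsg.Agent.SporadicA.OctadFix Cfsg.Agent.SporadicStructure.M24El
open Cfsg.Agent.J4.M24InvolData Cfsg.Agent.J4.M24Invol
open Cfsg.Agent.J4Type Cfsg.Agent.J4Type.CocodeMask Cfsg.Agent.J4Type.CocodeExt
open Cfsg.Agent.J4Type.CocodeAct Cfsg.Agent.J4Type.TauM24 Cfsg.Agent.J4Type.TauMask

/-- the masks of the even subsets of `O` -/
def IsW (O : Finset GolayPt) (s : ℕ) : Prop := ∃ S ⊆ O, Even S.card ∧ msk S = s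

theorem IsW.ev {O : Finset GolayPt} {s : ℕ} (h : IsW O s) : ev s = true := by
  obtain ⟨S, -, hS, rfl⟩ := h
  exact ev_msk hS

theorem isW_zero (O : Finset GolayPt) : IsW O 0 :=
  ⟨∅, Finset.empty_subset _, by simp, (msk_eq_zero_iff _).2 (by
    have h : (∅ : Finset GolayPt) = fin 0 := by decide +kernel
    rw [h, fin_mem_supports_iff (by norm_num)]
    decide +kernel)⟩

theorem IsW.xor {O : Finset GolayPt} {s t : ℕ} (h : IsW O s) (h' : IsW O t) : IsW O (s ^^^ t) := by
  obtain ⟨S, hS, hSe, rfl⟩ := h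
  obtain ⟨T, hT, hTe, rfl⟩ := h'
  refine ⟨symmDiff S T, ?_, ?_, msk_symmDiff S T⟩
  · exact Finset.symmDiff_subset_union.trans (Finset.union_subset hS hT)
  · exact FrameDefs.even_symmDiff hSe hTe

theorem IsW.act {O : Finset GolayPt} {s : ℕ} (h : IsW O s) (g : M24) :
    IsW ((g : Equiv.Perm GolayPt) • O) (act g s) := by
  obtain ⟨S, hS, hSe, rfl⟩ := h
  exact ⟨(g : Equiv.Perm GolayPt) • S, Finset.smul_finset_subset_smul_finset hS,
    by rwa [Finset.card_smul_finset], msk_smul g S⟩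

theorem msk_pair {p q : GolayPt} (hpq : p ≠ q) : msk {p, q} = du p q := by
  have h : ({p, q} : Finset GolayPt) = symmDiff {p} {q} := by
    ext x
    simp only [Finset.mem_insert, Finset.mem_singleton, Finset.mem_symmDiff]
    constructor
    · rintro (rfl | rfl)
      · exact Or.inl ⟨rfl, hpq⟩
      · exact Or.inr ⟨rfl, hpq.symm⟩
    · rintro (⟨h, -⟩ | ⟨h, -⟩)
      · exact Or.inl h
      · exact Or.inr h
  rw [h, msk_symmDiff, msk_singleton, msk_singleton]
  rfl

theorem isW_du {O : Finset GolayPt} {p q : GolayPt} (hp : p ∈ O) (hq : q ∈ O) : IsW O (du p q) := by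
  by_cases hpq : p = q
  · subst hpq
    rw [du_self]
    exact isW_zero O
  · refine ⟨{p, q}, ?_, by rw [Finset.card_pair hpq]; decide, msk_pair hpq⟩
    intro x hx
    rw [Finset.mem_insert, Finset.mem_singleton] at hx
    rcases hx with rfl | rfl <;> assumption

/-- a duad outside the octad is not in `W(O)` -/
theorem not_isW_du {O : Finset GolayPt} (hO : O ∈ octads) {p q : GolayPt} (hp : p ∉ O) (hq : q ∉ O)
    (hpq : p ≠ q) : ¬ IsW O (du p q) := by
  rintro ⟨S, hS, hSe, h⟩
  rw [← msk_pair hpq, msk_eq_iff] at h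
  have h0 : Disjoint S {p, q} := by
    rw [Finset.disjoint_left]
    intro x hx hx'
    rw [Finset.mem_insert, Finset.mem_singleton] at hx'
    rcases hx' with rfl | rfl
    · exact hp (hS hx)
    · exact hq (hS hx)
  have h1 : symmDiff S {p, q} = S ∪ {p, q} := by
    ext x
    simp only [Finset.mem_symmDiff, Finset.mem_union]
    rw [Finset.disjoint_left] at h0
    constructor
    · rintro (⟨h, -⟩ | ⟨h, -⟩)
      · exact Or.inl h
      · exact Or.inr h
    · rintro (h | h)
      · exact Or.inl ⟨h, h0 h⟩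
      · exact Or.inr ⟨h, fun h' => h0 h' h⟩
  have h2 : (symmDiff S {p, q} : Finset GolayPt).card = S.card + 2 := by
    rw [h1, Finset.card_union_of_disjoint h0, Finset.card_pair hpq]
  have hO8 : O.card = 8 := octad_card hO
  have h3 := Finset.card_le_card hS
  have h4 := card_of_mem_supports h
  have h5 : S.card = 6 := by omega
  have h6 : symmDiff S {p, q} ∈ octads := ⟨h, by rw [h2, h5]⟩
  have hne : symmDiff S {p, q} ≠ O := by
    intro h7
    apply hp
    rw [← h7, h1, Finset.mem_union]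
    exact Or.inr (Finset.mem_insert_self _ _)
  have h8 : symmDiff S {p, q} ∩ O = S := by
    rw [h1]
    ext x
    simp only [Finset.mem_inter, Finset.mem_union, Finset.mem_insert, Finset.mem_singleton]
    constructor
    · rintro ⟨h | rfl | rfl, hx⟩
      · exact h
      · exact absurd hx hp
      · exact absurd hx hq
    · intro h
      exact ⟨Or.inl h, hS h⟩
  have h7 := DuadM24.inter_card h6 hO hne (by rw [h8, h5]; norm_num)
  rw [h8, h5] at h7
  omega

/-! ### Involutions with fixed points -/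

/-- the even subsets of the fixed octad of `P1` (up to complement) -/
def WS : List ℕ := [0, 24, 40, 136, 16392, 262152, 1048584, 48, 144, 16400, 262160, 1048592, 160, 16416, 262176, 1048608, 16512, 262272, 1048704, 278528, 1064960, 1310720, 184, 16440, 262200, 1048632, 16536, 262296, 1048728, 278552, 1064984, 1310744, 16552, 262312, 1048744, 278568, 1065000, 1310760, 278664, 1065096, 1310856, 1327112, 16560, 262320, 1048752, 278576, 1065008, 1310768, 278672, 1065104, 1310864, 1327120, 278688, 1065120, 1310880, 1327136, 1327232, 278712, 1065144, 1310904, 1327160, 1327256, 1327272, 1327280]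

/-- their masks -/
def WL : List ℕ := [0, 3920, 3461, 1806, 1767, 1699, 2019, 725, 2142, 2487, 2547, 2227, 2699, 2914, 2854, 2662, 489, 429, 237, 68, 260, 320, 1499, 1074, 1142, 1334, 3769, 3837, 4029, 3860, 3668, 3600, 3180, 3112, 3432, 3521, 3201, 3269, 1866, 1546, 1614, 1959, 828, 888, 568, 657, 977, 917, 2074, 2394, 2334, 2295, 2767, 2959, 3019, 2594, 169, 1439, 1247, 1179, 1394, 4089, 3372, 636]

def inWL (s : ℕ) : Bool := WL.any fun w => Nat.beq w s

theorem WL_eq : WS.map (fun m => (m ^^^ enc m) >>> 12) = WL := by decide +kernel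

def O1m : ℕ := 1327290

theorem WS_ok : ∀ m ∈ WS, m < 2 ^ 24 ∧ m &&& O1m = m ∧ popcount m % 2 = 0 := by decide +kernel

theorem isW_of_inWL {s : ℕ} (h : inWL s = true) : IsW (fin O1m) s := by
  rw [inWL, List.any_eq_true] at h
  obtain ⟨w, hw, hws⟩ := h
  rw [Nat.beq_eq] at hws
  subst hws
  rw [← WL_eq, List.mem_map] at hw
  obtain ⟨m, hm, rfl⟩ := hw
  obtain ⟨h1, h2, h3⟩ := WS_ok m hm
  refine ⟨fin m, ?_, ?_, ?_⟩
  · intro p hp
    rw [mem_fin] at hp ⊢
    rw [← h2, Nat.testBit_and, Bool.and_eq_true] at hp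
    exact hp.2
  · rw [card_fin, Nat.even_iff]
    exact h3
  · rw [msk, maskOf_fin h1]

/-- check of the fixed masks of `P1` -/
def k2ok (s : ℕ) : Bool :=
  !(ev s) || !(Nat.beq (actT P1 s) s) || inWL s ||
    ((List.range 24).all fun i => O1m.testBit i || inWL (s ^^^ (st i ^^^ st (papp P1 i))))

theorem k2_check : (List.range 4096).all k2ok = true := by decide +kernel

theorem isTab_P1 : IsTab (el P1) P1 := fun p => by
  rw [← coe_smul_pt, idx_el_smul ok_P1]

theorem isTab_P2 : IsTab (el P2) P2 := fun p => by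
  rw [← coe_smul_pt, idx_el_smul ok_P2]

theorem fixP1 {s : ℕ} (hs : ev s = true) (h : act (el P1) s = s) {p : GolayPt} (hp : p ∉ fin O1m) :
    IsW (fin O1m) s ∨ IsW (fin O1m) (s ^^^ du p ((el P1 : Equiv.Perm GolayPt) p)) := by
  have h1 := k2_check
  rw [List.all_eq_true] at h1
  have h2 := h1 s (List.mem_range.2 ((ev_iff s).1 hs).1)
  rw [act_eq isTab_P1] at h
  simp only [k2ok, hs, h, Nat.beq_refl, Bool.not_true, Bool.false_or, Bool.or_eq_true] at h2
  rcases h2 with h2 | h2
  · exact Or.inl (isW_of_inWL h2)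
  · right
    rw [List.all_eq_true] at h2
    have h3 := h2 (idx p) (List.mem_range.2 (idx_lt p))
    rw [Bool.or_eq_true] at h3
    rcases h3 with h3 | h3
    · exact absurd (mem_fin.2 h3) hp
    · apply isW_of_inWL
      rw [du, isTab_P1 p]
      exact h3

theorem fix_P1_eq : ∀ p : GolayPt, papp P1 (idx p) = idx p ↔ p ∈ fin O1m := by
  have h : ∀ p : GolayPt, papp P1 (idx p) = idx p ↔ O1m.testBit (idx p) = true := by decide +kernel
  intro p
  rw [h, mem_fin]

/-- the elements of the cocode fixed by an involution fixing an octad pointwise -/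
theorem fix_cases {O : Finset GolayPt} (hO : O ∈ octads) {u : M24}
    (hu : (u : Equiv.Perm GolayPt) ∈ fixOct O) (hu1 : u ≠ 1) {p : GolayPt} (hp : p ∉ O) {s : ℕ}
    (hs : ev s = true) (h : act u s = s) :
    IsW O s ∨ IsW O (s ^^^ du p ((u : Equiv.Perm GolayPt) p)) := by
  have hsq : u * u = 1 := Subtype.ext (fixOct_sq hO hu)
  obtain ⟨k, hk⟩ := invol_conj u hsq hu1
  have hfix : ∀ x : GolayPt, x ∈ O → (u : Equiv.Perm GolayPt) x = x := (mem_fixOct.1 hu).2
  have hne : O.Nonempty := by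
    rw [← Finset.card_pos, octad_card hO]; norm_num
  rcases hk with hk | hk
  · -- `k u k⁻¹ = el P1`
    have hkO : (k : Equiv.Perm GolayPt) • O = fin O1m := by
      apply Finset.eq_of_subset_of_card_le
      · intro y hy
        obtain ⟨x, hx, rfl⟩ := Finset.mem_smul_finset.1 hy
        rw [← fix_P1_eq, ← isTab_P1, ← hk]
        show idx ((k : Equiv.Perm GolayPt) ((u : Equiv.Perm GolayPt)
          ((k : Equiv.Perm GolayPt)⁻¹ ((k : Equiv.Perm GolayPt) x)))) = idx ((k : Equiv.Perm GolayPt) x)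
        rw [show (k : Equiv.Perm GolayPt)⁻¹ ((k : Equiv.Perm GolayPt) x) = x from
          (k : Equiv.Perm GolayPt).symm_apply_apply x, hfix x hx]
      · rw [Finset.card_smul_finset, octad_card hO]
        have : (fin O1m).card = 8 := by rw [card_fin]; decide +kernel
        rw [this]
    have hs' := ((ev_iff s).1 hs).1
    have hkp : (k : Equiv.Perm GolayPt) p ∉ fin O1m := by
      rw [← hkO]
      intro h1
      obtain ⟨x, hx, hxp⟩ := Finset.mem_smul_finset.1 h1
      exact hp ((k : Equiv.Perm GolayPt).injective hxp ▸ hx)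
    have hinv : ∀ a, a < 4096 → act k⁻¹ (act k a) = a := by
      intro a ha
      rw [← act_mul _ _ ha, inv_mul_cancel, act_one ha]
    have h2 : act (el P1) (act k s) = act k s := by
      rw [← hk, act_mul _ _ (act_lt k s), act_mul _ _ (act_lt _ _), hinv s hs', h]
    have h3 : (el P1 : Equiv.Perm GolayPt) ((k : Equiv.Perm GolayPt) p) =
        (k : Equiv.Perm GolayPt) ((u : Equiv.Perm GolayPt) p) := by
      rw [← hk]
      show (k : Equiv.Perm GolayPt) ((u : Equiv.Perm GolayPt)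
        ((k : Equiv.Perm GolayPt)⁻¹ ((k : Equiv.Perm GolayPt) p))) = _
      congr 2
      exact (k : Equiv.Perm GolayPt).symm_apply_apply p
    have hback : ∀ a, a < 4096 → IsW (fin O1m) (act k a) → IsW O a := by
      intro a ha h4
      have h5 := h4.act k⁻¹
      rw [hinv a ha, ← hkO, Subgroup.coe_inv, inv_smul_smul] at h5
      exact h5
    rcases fixP1 (ev_act k hs) h2 hkp with h4 | h4
    · exact Or.inl (hback s hs' h4)
    · right
      rw [h3, ← act_du, ← act_xor] at h4
      exact hback _ ((ev_iff _).1 (ev_xor hs (ev_du _ _))).1 h4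
  · exfalso
    obtain ⟨x, hx⟩ := hne
    apply FusionM22.fix_P2 ((k : Equiv.Perm GolayPt) x)
    rw [← el_smul_pt ok_P2, ← hk]
    show (k : Equiv.Perm GolayPt) ((u : Equiv.Perm GolayPt)
      ((k : Equiv.Perm GolayPt)⁻¹ ((k : Equiv.Perm GolayPt) x))) = _
    have h6 : (k : Equiv.Perm GolayPt)⁻¹ ((k : Equiv.Perm GolayPt) x) = x :=
      (k : Equiv.Perm GolayPt).symm_apply_apply x
    rw [h6, hfix x hx]

/-! ### Fixed point free involutions -/

/-- the fixed masks of `P2` -/
def F2 : List ℕ := [0, 12, 192, 204, 277, 281, 469, 473, 533, 537, 725, 729, 768, 780, 960, 972, 1056, 1068, 1248, 1260, 1333, 1337, 1525, 1529, 1589, 1593, 1781, 1785, 1824, 1836, 2016, 2028, 2049, 2061, 2241, 2253, 2324, 2328, 2516, 2520, 2580, 2584, 2772, 2776, 2817, 2829, 3009, 3021, 3105, 3117, 3297, 3309, 3380, 3384, 3572, 3576, 3636, 3640, 3828, 3832, 3873, 3885, 4065, 4077]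

def k1ok (s : ℕ) : Bool :=
  !(ev s) || !(Nat.beq (actT P2 s) s) || F2.any fun w => Nat.beq w s

theorem k1_check : (List.range 4096).all k1ok = true := by decide +kernel

theorem P1_fix : papp P1 1 = 1 := by decide +kernel

/-- a fixed point free involution fixes at most 64 elements of the even cocode -/
theorem card_fixed_le {u : M24} (hu : u * u = 1) (hfix : ∀ p, (u : Equiv.Perm GolayPt) p ≠ p) :
    ((Finset.range 4096).filter fun s => ev s = true ∧ act u s = s).card ≤ 64 := by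
  have hu1 : u ≠ 1 := by
    rintro rfl
    exact hfix none rfl
  obtain ⟨k, hk⟩ := invol_conj u hu hu1
  rcases hk with hk | hk
  · exfalso
    apply hfix ((k : Equiv.Perm GolayPt)⁻¹ (pt 1))
    have h1 : (el P1 : Equiv.Perm GolayPt) (pt 1) = pt 1 := by
      rw [← coe_smul_pt, el_smul_pt ok_P1, idx_pt (by norm_num), P1_fix]
    rw [← hk] at h1
    have h2 : (k : Equiv.Perm GolayPt) ((u : Equiv.Perm GolayPt)
      ((k : Equiv.Perm GolayPt)⁻¹ (pt 1))) = pt 1 := h1
    exact (Equiv.Perm.eq_inv_iff_eq).2 h2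
  · have hcard : F2.toFinset.card ≤ 64 := (List.toFinset_card_le _).trans (by decide)
    refine le_trans (Finset.card_le_card_of_injOn (act k) ?_ ?_) hcard
    · intro s hs
      rw [Finset.mem_coe, Finset.mem_filter, Finset.mem_range] at hs
      obtain ⟨hs1, hs2, hs3⟩ := hs
      have h2 : act (el P2) (act k s) = act k s := by
        rw [← hk, act_mul _ _ (act_lt k s), act_mul _ _ (act_lt _ _), ← act_mul k⁻¹ k hs1,
          inv_mul_cancel, act_one hs1, hs3]
      rw [act_eq isTab_P2] at h2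
      have h3 := k1_check
      rw [List.all_eq_true] at h3
      have h4 := h3 (act k s) (List.mem_range.2 (act_lt _ _))
      simp only [k1ok, ev_act k hs2, h2, Nat.beq_refl, Bool.not_true, Bool.false_or] at h4
      rw [List.any_eq_true] at h4
      obtain ⟨w, hw, hws⟩ := h4
      rw [Nat.beq_eq] at hws
      rw [Finset.mem_coe, List.mem_toFinset, ← hws]
      exact hw
    · intro s hs t ht hst
      rw [Finset.mem_coe, Finset.mem_filter, Finset.mem_range] at hs ht
      exact act_inj k hs.1 ht.1 hst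

end Cfsg.Agent.H857.Fix
end

-- part: H857/Card
section
/-!
# J₄ type: orders of elementary abelian subgroups of `M24` and of their preimages (helper857)

* `card_eq_mul` : `|V| = |V ∩ E| · |im V|` for `V ≤ N_G(E)`;
* `card_le_orbit`, `card_le_duad`, `card_le_128`.
-/

set_option autoImplicit false

open scoped Pointwise

namespace Cfsg.Agent.H857.Card

open Cfsg Cfsg.Agent.J4Type Cfsg.Agent.J4Type.CloseInst

variable {G : Type*} [Group G]

section

variable (K : Frame G)

/-- the image in the symmetric group of a subgroup of `N_G(E)` -/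
def im (K : Frame G) (V : Subgroup G) : Subgroup (Equiv.Perm GolayPt) :=
  ((V.subgroupOf (Subgroup.normalizer (K.E hex0 : Set G))).map K.π).map M24.subtype

theorem mem_im {V : Subgroup G} {g : Equiv.Perm GolayPt} : g ∈ im K V ↔
    ∃ n : Subgroup.normalizer (K.E hex0 : Set G), (n : G) ∈ V ∧ (K.π n : Equiv.Perm GolayPt) = g := by
  constructor
  · rintro ⟨_, ⟨n, hn, rfl⟩, rfl⟩
    exact ⟨n, hn, rfl⟩
  · rintro ⟨n, hn, rfl⟩
    exact ⟨_, ⟨n, hn, rfl⟩, rfl⟩

theorem im_le (V : Subgroup G) : im K V ≤ M24 := by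
  intro g hg
  obtain ⟨n, -, rfl⟩ := (mem_im K).1 hg
  exact (K.π n).2

theorem im_sq {V : Subgroup G} (hV : ∀ v ∈ V, v * v = 1) : ∀ g ∈ im K V, g * g = 1 := by
  intro g hg
  obtain ⟨n, hn, rfl⟩ := (mem_im K).1 hg
  have h1 : n * n = 1 := Subtype.ext (hV _ hn)
  have h2 : K.π n * K.π n = 1 := by rw [← map_mul, h1, map_one]
  exact congrArg Subtype.val h2

/-- `|V| = |V ∩ E| · |im V|` for `V ≤ N_G(E)` -/
theorem card_eq_mul {V : Subgroup G} (hV : V ≤ Subgroup.normalizer (K.E hex0 : Set G)) :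
    Nat.card V = Nat.card (V ⊓ K.E hex0 : Subgroup G) * Nat.card (im K V) := by
  let f : V →* M24 := K.π.comp (Subgroup.inclusion hV)
  have h1 : Nat.card V = Nat.card f.ker * Nat.card f.range := by
    rw [← f.ker.card_mul_index]
    congr 1
    exact Subgroup.index_ker f
  have h2 : Nat.card f.ker = Nat.card (V ⊓ K.E hex0 : Subgroup G) := by
    refine Nat.card_congr
      { toFun := fun x => ⟨(x : V), (x : V).2, (K.π_ker _).1 x.2⟩
        invFun := fun x => ⟨⟨x, x.2.1⟩, (K.π_ker ⟨x, hV x.2.1⟩).2 x.2.2⟩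
        left_inv := fun x => rfl
        right_inv := fun x => rfl }
  have h3 : Nat.card f.range = Nat.card (im K V) := by
    have e : im K V = f.range.map M24.subtype := by
      ext g
      rw [mem_im]
      constructor
      · rintro ⟨n, hn, rfl⟩
        exact ⟨_, ⟨⟨n, hn⟩, rfl⟩, rfl⟩
      · rintro ⟨_, ⟨v, rfl⟩, rfl⟩
        exact ⟨⟨v, hV v.2⟩, v.2, rfl⟩
    rw [e]
    exact Nat.card_congr (f.range.equivMapOfInjective _ (Subgroup.subtype_injective _)).toEquiv
  rw [h1, h2, h3]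

end

/-- an elementary abelian 2-subgroup of `M24` fixing a duad has order at most 32 -/
theorem card_le_duad (S : Subgroup (Equiv.Perm GolayPt)) (hS : S ≤ M24) (hel : ∀ g ∈ S, g * g = 1)
    {p q : GolayPt} (hf : ∀ g ∈ S, g p = p ∨ g p = q) : Nat.card S ≤ 32 := by
  classical
  let S0 : Subgroup (Equiv.Perm GolayPt) := S ⊓ MulAction.stabilizer (Equiv.Perm GolayPt) p
  have h0 : Nat.card S0 ≤ 16 := by
    apply FusionM22.card_le S0 (inf_le_left.trans hS) (fun g hg => hel g hg.1) (p₀ := p)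
    intro g hg
    exact hg.2
  have h1 := FusionOne.card_le_two_mul S (MulAction.stabilizer (Equiv.Perm GolayPt) p) (by
    intro a ha b hb hap hbp
    have ha' : a p = q := (hf a ha).resolve_left hap
    have hb' : b p = q := (hf b hb).resolve_left hbp
    show a⁻¹ (b p) = p
    rw [hb', ← ha']
    simp)
  have h2 : Nat.card (S ⊓ MulAction.stabilizer (Equiv.Perm GolayPt) p : Subgroup _) ≤ 16 := h0
  omega

/-- orbit and stabiliser -/
theorem card_le_orbit (S : Subgroup (Equiv.Perm GolayPt)) (p : GolayPt) (F : Finset GolayPt)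
    (hF : ∀ g ∈ S, g p ∈ F) :
    Nat.card S ≤ F.card * Nat.card (S ⊓ MulAction.stabilizer (Equiv.Perm GolayPt) p : Subgroup _) := by
  classical
  have h1 := Nat.card_congr (MulAction.orbitProdStabilizerEquivGroup S p)
  rw [Nat.card_prod] at h1
  have h2 : Nat.card (MulAction.orbit S p) ≤ F.card := by
    have : Nat.card (MulAction.orbit S p) ≤ Nat.card F := by
      refine Nat.card_le_card_of_injective (fun x => (⟨x.1, ?_⟩ : F)) ?_
      · obtain ⟨g, hg⟩ := x.2
        rw [← hg]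
        exact hF _ g.2
      · intro x y h
        exact Subtype.ext (congrArg (fun u : F => (u : GolayPt)) h)
    simpa using this
  have h3 : Nat.card (MulAction.stabilizer S p) =
      Nat.card (S ⊓ MulAction.stabilizer (Equiv.Perm GolayPt) p : Subgroup _) := by
    refine Nat.card_congr
      { toFun := fun x => ⟨((x : S) : Equiv.Perm GolayPt), (x : S).2, x.2⟩
        invFun := fun x => ⟨⟨x, x.2.1⟩, x.2.2⟩
        left_inv := fun x => rfl
        right_inv := fun x => rfl }
  rw [← h1, h3]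
  exact Nat.mul_le_mul_right _ h2

theorem comm_of_sq {H : Type*} [Group H] {S : Subgroup H} (hel : ∀ g ∈ S, g * g = 1) :
    ∀ a ∈ S, ∀ b ∈ S, a * b = b * a := by
  intro a ha b hb
  have h1 := hel _ (S.mul_mem ha hb)
  have h2 : a⁻¹ = a := inv_eq_of_mul_eq_one_left (hel a ha)
  have h3 : b⁻¹ = b := inv_eq_of_mul_eq_one_left (hel b hb)
  calc a * b = (a * b)⁻¹ := (inv_eq_of_mul_eq_one_left h1).symm
    _ = b * a := by rw [mul_inv_rev, h2, h3]

/-- an elementary abelian 2-subgroup of `M24` has order at most `2 ^ 7` -/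
theorem card_le_128 (S : Subgroup (Equiv.Perm GolayPt)) (hS : S ≤ M24) (hel : ∀ g ∈ S, g * g = 1) :
    Nat.card S ≤ 128 := by
  classical
  have hcomm := comm_of_sq hel
  by_cases h : ∃ u ∈ S, u ≠ 1 ∧ ∃ p, u p = p
  · obtain ⟨u, hu, hu1, p, hp⟩ := h
    have h8 := FusionM22.card_fix (hS hu) (hel u hu) hu1 hp
    have h1 := card_le_orbit S p (Finset.univ.filter fun p : GolayPt => u p = p) (by
      intro g hg
      rw [Finset.mem_filter]
      refine ⟨Finset.mem_univ _, ?_⟩
      rw [← Equiv.Perm.mul_apply, hcomm u hu g hg, Equiv.Perm.mul_apply, hp])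
    have h2 : Nat.card (S ⊓ MulAction.stabilizer (Equiv.Perm GolayPt) p : Subgroup _) ≤ 16 :=
      FusionM22.card_le _ (inf_le_left.trans hS) (fun g hg => hel g hg.1) (p₀ := p)
        (fun g hg => hg.2)
    rw [h8] at h1
    omega
  · push Not at h
    have h1 := card_le_orbit S none Finset.univ (fun g _ => Finset.mem_univ _)
    have h2 : (S ⊓ MulAction.stabilizer (Equiv.Perm GolayPt) (none : GolayPt) : Subgroup _) = ⊥ := by
      rw [eq_bot_iff]
      intro g hg
      rw [Subgroup.mem_bot]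
      by_contra hg1
      exact h g hg.1 hg1 none hg.2
    rw [h2, Finset.card_univ, HexMax.card24, Subgroup.card_bot] at h1
    omega

end Cfsg.Agent.H857.Card
end

-- part: H857/WGrp
section
/-!
# The subgroup `W(O) ≤ E` of the even subsets of an octad (helper857)

* `card_WG_le` : `|W(O)| ≤ 64`;
* `cases_of_comm` : `C_E(n) ⊆ W(O) ∪ ε{p, up} W(O)` if `π n = u` is an involution fixing `O` pointwise;
* `le_WG` : `C_E(n) ∩ C_E(m) ≤ W(O)` if `π n ≠ π m` are two such involutions;
* `four_mul_card`, `two_mul_card` : bounds for `C_W(n)`.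
-/

set_option autoImplicit false

open scoped Pointwise

namespace Cfsg.Agent.H857.WGrp

open Cfsg Cfsg.Agent.SporadicA.GolayBase Cfsg.Agent.SporadicA.OctadFix
open Cfsg.Agent.J4Type Cfsg.Agent.J4Type.CocodeMask
open Cfsg.Agent.J4Type.CocodeAct Cfsg.Agent.J4Type.TauM24 Cfsg.Agent.J4Type.TauMask
open Cfsg.Agent.J4Type.FrameDefs Cfsg.Agent.H857.Fix

variable {G : Type*} [Group G]

theorem even_pair' {p q : GolayPt} (hpq : p ≠ q) : Even ({p, q} : Finset GolayPt).card := by
  rw [Finset.card_pair hpq]; decide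

section

variable (F : Frame G)

/-- the subgroup `W(O)` -/
def WG (O : Finset GolayPt) : Subgroup G where
  carrier := {a | ∃ S ⊆ O, Even S.card ∧ F.ε S = a}
  one_mem' := ⟨∅, Finset.empty_subset _, by simp, ε_empty F⟩
  mul_mem' := by
    rintro _ _ ⟨S, hS, hSe, rfl⟩ ⟨T, hT, hTe, rfl⟩
    exact ⟨symmDiff S T, Finset.symmDiff_subset_union.trans (Finset.union_subset hS hT),
      even_symmDiff hSe hTe, F.ε_mul S T hSe hTe⟩
  inv_mem' := by
    rintro _ ⟨S, hS, hSe, rfl⟩
    exact ⟨S, hS, hSe, (inv_eq_of_mul_eq_one_right (ε_sq F hSe)).symm⟩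

variable {F}

theorem mem_WG {O : Finset GolayPt} {a : G} : a ∈ WG F O ↔ ∃ S ⊆ O, Even S.card ∧ F.ε S = a :=
  Iff.rfl

theorem WG_le (O : Finset GolayPt) : WG F O ≤ F.E hex0 := by
  rintro _ ⟨S, -, hSe, rfl⟩
  exact F.ε_mem S hSe

theorem c_mem_WG {O : Finset GolayPt} {s : ℕ} (h : IsW O s) : (c F s : G) ∈ WG F O := by
  obtain ⟨S, hS, hSe, rfl⟩ := h
  exact ⟨S, hS, hSe, (c_msk F hSe).symm⟩

theorem isW_of_mem {O : Finset GolayPt} {s : ℕ} (hs : ev s = true) (h : (c F s : G) ∈ WG F O) :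
    IsW O s := by
  obtain ⟨S, hS, hSe, h⟩ := h
  rw [← c_msk F hSe] at h
  exact ⟨S, hS, hSe, c_inj F (ev_msk hSe) hs h⟩

theorem c_du {p q : GolayPt} (hpq : p ≠ q) : (c F (du p q) : G) = F.ε {p, q} := by
  rw [← msk_pair hpq, c_msk F (even_pair' hpq)]

theorem duad_mem_WG {O : Finset GolayPt} {p q : GolayPt} (hp : p ∈ O) (hq : q ∈ O) (hpq : p ≠ q) :
    F.ε {p, q} ∈ WG F O := by
  rw [← c_du hpq]
  exact c_mem_WG (isW_du hp hq)

theorem duad_not_mem_WG {O : Finset GolayPt} (hO : O ∈ octads) {p q : GolayPt} (hp : p ∉ O)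
    (hq : q ∉ O) (hpq : p ≠ q) : F.ε {p, q} ∉ WG F O := by
  rw [← c_du hpq]
  exact fun h => not_isW_du hO hp hq hpq (isW_of_mem (ev_du _ _) h)

theorem card_WG_le {O : Finset GolayPt} (hO : O ∈ octads) : Nat.card (WG F O) ≤ 64 := by
  classical
  have hO8 : O.card = 8 := octad_card hO
  obtain ⟨x, hx, y, hy, hxy⟩ := Finset.one_lt_card.1 (show 1 < O.card by omega)
  let O' : Finset GolayPt := (O.erase x).erase y
  have hO' : O'.card = 6 := by
    have h1 : y ∈ O.erase x := Finset.mem_erase.2 ⟨hxy.symm, hy⟩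
    rw [Finset.card_erase_of_mem h1, Finset.card_erase_of_mem hx, hO8]
  let f : Finset GolayPt → G := fun T => if Even T.card then F.ε T else F.ε (insert y T)
  have key : ∀ S ⊆ O, Even S.card → x ∉ S → ∃ T ∈ O'.powerset, F.ε S = f T := by
    intro S hS hSe hxS
    refine ⟨S.erase y, ?_, ?_⟩
    · rw [Finset.mem_powerset]
      intro z hz
      rw [Finset.mem_erase] at hz
      rw [Finset.mem_erase, Finset.mem_erase]
      exact ⟨hz.1, fun h => hxS (h ▸ hz.2), hS hz.2⟩
    · show _ = if Even (S.erase y).card then F.ε (S.erase y) else F.ε (insert y (S.erase y))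
      by_cases hyS : y ∈ S
      · have h1 := Finset.card_erase_add_one hyS
        rw [if_neg, Finset.insert_erase hyS]
        rw [Nat.even_iff] at hSe ⊢
        omega
      · rw [Finset.erase_eq_of_notMem hyS, if_pos hSe]
  have key2 : ∀ a ∈ WG F O, a ∈ O'.powerset.image f := by
    rintro _ ⟨S, hS, hSe, rfl⟩
    rw [Finset.mem_image]
    by_cases hxS : x ∈ S
    · have h1 : F.ε (O \ S) = F.ε S := by
        have h2 : symmDiff O S = O \ S := by
          ext z
          rw [Finset.mem_symmDiff, Finset.mem_sdiff]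
          constructor
          · rintro (h | h)
            · exact h
            · exact absurd (hS h.1) h.2
          · exact Or.inl
        have hOe : Even O.card := by rw [hO8]; decide
        rw [← h2, F.ε_mul O S hOe hSe, (F.ε_ker O hOe).2 hO.1, one_mul]
      have h3 : (O \ S).card = O.card - S.card := Finset.card_sdiff_of_subset hS
      have h4 := Finset.card_le_card hS
      obtain ⟨T, hT, h⟩ := key (O \ S) Finset.sdiff_subset (by
        rw [Nat.even_iff] at hSe ⊢
        omega) (by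
        rw [Finset.mem_sdiff]
        exact fun h => h.2 hxS)
      exact ⟨T, hT, by rw [← h, h1]⟩
    · obtain ⟨T, hT, h⟩ := key S hS hSe hxS
      exact ⟨T, hT, h.symm⟩
  have h1 : Nat.card (WG F O) ≤ (O'.powerset.image f).card := by
    have h2 : Nat.card (WG F O) ≤ Nat.card (O'.powerset.image f : Finset G) :=
      Nat.card_le_card_of_injective (fun a : WG F O => (⟨a, key2 _ a.2⟩ : (O'.powerset.image f : Finset G)))
        (fun a b h => Subtype.ext (congrArg (fun u : (O'.powerset.image f : Finset G) => (u : G)) h))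
    rwa [Nat.card_eq_fintype_card (α := (O'.powerset.image f : Finset G)), Fintype.card_coe] at h2
  refine h1.trans (Finset.card_image_le.trans ?_)
  rw [Finset.card_powerset, hO']
  norm_num

/-- the elements of `E` commuting with an element inducing an involution fixing `O` pointwise -/
theorem cases_of_comm {O : Finset GolayPt} (hO : O ∈ octads) {n : NE F}
    (hu : (F.π n : Equiv.Perm GolayPt) ∈ fixOct O) (hu1 : F.π n ≠ 1) {p : GolayPt} (hp : p ∉ O)
    {d : G} (hd : d ∈ F.E hex0) (hnd : (n : G) * d = d * n) :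
    d ∈ WG F O ∨ d * F.ε {p, (F.π n : Equiv.Perm GolayPt) p} ∈ WG F O := by
  obtain ⟨s, hs, rfl⟩ := exists_c F hd
  have h1 := conj_c F n hs
  rw [hnd, mul_inv_cancel_right] at h1
  have h2 := c_inj F hs (ev_act _ hs) h1
  have hne : p ≠ (F.π n : Equiv.Perm GolayPt) p := by
    intro h
    apply hu1
    exact Subtype.ext (OctadFixTrans.eq_one_of_fix hO hu hp h.symm)
  rcases fix_cases hO hu hu1 hp hs h2.symm with h | h
  · exact Or.inl (c_mem_WG h)
  · right
    rw [← c_du hne, ← c_xor F hs (ev_du _ _)]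
    exact c_mem_WG h

/-- two involutions fixing `O` pointwise -/
theorem mem_WG_of_comm {O : Finset GolayPt} (hO : O ∈ octads) {n m : NE F}
    (hu : (F.π n : Equiv.Perm GolayPt) ∈ fixOct O) (hu1 : F.π n ≠ 1)
    (hv : (F.π m : Equiv.Perm GolayPt) ∈ fixOct O) (hv1 : F.π m ≠ 1) (huv : F.π n ≠ F.π m)
    {d : G} (hd : d ∈ F.E hex0) (hnd : (n : G) * d = d * n) (hmd : (m : G) * d = d * m) :
    d ∈ WG F O := by
  obtain ⟨p, hp⟩ := FusionComm.exists_out hO
  set u := (F.π n : Equiv.Perm GolayPt) with hu'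
  set v := (F.π m : Equiv.Perm GolayPt) with hv'
  have hout : ∀ w ∈ fixOct O, w p ∉ O := by
    intro w hw h
    have h1 := (mem_fixOct.1 hw).2 _ h
    exact hp (w.injective h1 ▸ h)
  rcases cases_of_comm hO hu hu1 hp hd hnd with h | h
  · exact h
  rcases cases_of_comm hO hv hv1 hp hd hmd with h' | h'
  · exact h'
  exfalso
  have hpu : p ≠ u p := fun h1 => hu1 (Subtype.ext (OctadFixTrans.eq_one_of_fix hO hu hp h1.symm))
  have hpv : p ≠ v p := fun h1 => hv1 (Subtype.ext (OctadFixTrans.eq_one_of_fix hO hv hp h1.symm))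
  have huvp : u p ≠ v p := by
    intro h1
    apply huv
    apply Subtype.ext
    have h2 : v⁻¹ * u ∈ fixOct O := (fixOct O).mul_mem ((fixOct O).inv_mem hv) hu
    have h3 : v⁻¹ * u = 1 := OctadFixTrans.eq_one_of_fix hO h2 hp (by
      rw [Equiv.Perm.mul_apply, h1]
      exact v.symm_apply_apply p)
    exact (inv_mul_eq_one.1 h3).symm
  have h3 := (WG F O).mul_mem ((WG F O).inv_mem h) h'
  have h4 : (d * F.ε {p, u p})⁻¹ * (d * F.ε {p, v p}) = F.ε {u p, v p} := by
    have e1 : (F.ε {p, u p})⁻¹ = F.ε {p, u p} := inv_eq_of_mul_eq_one_right (ε_sq F (even_pair' hpu))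
    rw [mul_inv_rev, mul_assoc, inv_mul_cancel_left, e1, ← c_du hpu, ← c_du hpv,
      ← c_xor F (ev_du _ _) (ev_du _ _), ← c_du huvp]
    congr 2
    rw [← du_du (u p) p (v p)]
    congr 1
    exact Nat.xor_comm _ _
  rw [h4] at h3
  exact duad_not_mem_WG hO (hout u hu) (hout v hv) huvp h3

end

/-! ### counting lemmas -/

theorem four_mul_card_le [Finite G] {K W : Subgroup G} (hKW : K ≤ W) (hW : ∀ w ∈ W, w * w = 1)
    {a b : G} (ha : a ∈ W) (hb : b ∈ W) (haK : a ∉ K) (hbK : b ∉ K) (habK : a * b ∉ K) :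
    4 * Nat.card K ≤ Nat.card W := by
  classical
  let r : Fin 4 → G := ![1, a, b, a * b]
  have hcomm : ∀ x ∈ W, ∀ y ∈ W, x * y = y * x := Card.comm_of_sq hW
  have hinv : ∀ x ∈ W, x⁻¹ = x := fun x hx => inv_eq_of_mul_eq_one_left (hW x hx)
  have hr : ∀ i, r i ∈ W := by
    intro i
    fin_cases i
    · exact W.one_mem
    · exact ha
    · exact hb
    · exact W.mul_mem ha hb
  have hd : ∀ i j, i ≠ j → (r i)⁻¹ * r j ∉ K := by
    have e1 : a⁻¹ * (a * b) = b := by group
    have e2 : b⁻¹ * (a * b) = a := by rw [hcomm a ha b hb]; group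
    have e3 : a⁻¹ * b = a * b := by rw [hinv a ha]
    have hs : ∀ i j, (r i)⁻¹ * r j ∉ K → (r j)⁻¹ * r i ∉ K := by
      intro i j h h'
      apply h
      have := K.inv_mem h'
      rwa [mul_inv_rev, inv_inv] at this
    have h01 : (r 0)⁻¹ * r 1 ∉ K := by show (1 : G)⁻¹ * a ∉ K; simpa using haK
    have h02 : (r 0)⁻¹ * r 2 ∉ K := by show (1 : G)⁻¹ * b ∉ K; simpa using hbK
    have h03 : (r 0)⁻¹ * r 3 ∉ K := by show (1 : G)⁻¹ * (a * b) ∉ K; simpa using habK
    have h12 : (r 1)⁻¹ * r 2 ∉ K := by show a⁻¹ * b ∉ K; rw [e3]; exact habK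
    have h13 : (r 1)⁻¹ * r 3 ∉ K := by show a⁻¹ * (a * b) ∉ K; rw [e1]; exact hbK
    have h23 : (r 2)⁻¹ * r 3 ∉ K := by show b⁻¹ * (a * b) ∉ K; rw [e2]; exact haK
    intro i j hij
    fin_cases i <;> fin_cases j <;>
      first
      | exact absurd rfl hij
      | assumption
      | (apply hs; assumption)
  have h1 : Nat.card (Fin 4 × K) ≤ Nat.card W := by
    refine Nat.card_le_card_of_injective (fun x => (⟨r x.1 * x.2, W.mul_mem (hr _) (hKW x.2.2)⟩ : W)) ?_
    rintro ⟨i, k⟩ ⟨j, l⟩ h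
    have h2 : r i * k = r j * l := congrArg Subtype.val h
    have h3 : (r i)⁻¹ * r j = k * (l : G)⁻¹ := by
      rw [inv_mul_eq_iff_eq_mul, ← mul_assoc, h2, mul_inv_cancel_right]
    have h4 : i = j := by
      by_contra hij
      exact hd i j hij (h3 ▸ K.mul_mem k.2 (K.inv_mem l.2))
    subst h4
    rw [Prod.mk.injEq]
    exact ⟨rfl, Subtype.ext (mul_left_cancel h2)⟩
  rwa [Nat.card_prod, Nat.card_eq_fintype_card (α := Fin 4), Fintype.card_fin] at h1

theorem two_mul_card_le [Finite G] {K W : Subgroup G} (hKW : K ≤ W) {a : G} (ha : a ∈ W)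
    (haK : a ∉ K) : 2 * Nat.card K ≤ Nat.card W := by
  classical
  have h1 : Nat.card (Fin 2 × K) ≤ Nat.card W := by
    refine Nat.card_le_card_of_injective (fun x => (⟨(if x.1 = 0 then 1 else a) * x.2, W.mul_mem (by
      split_ifs
      · exact W.one_mem
      · exact ha) (hKW x.2.2)⟩ : W)) ?_
    rintro ⟨i, k⟩ ⟨j, l⟩ h
    have h2 : (if i = 0 then 1 else a) * (k : G) = (if j = 0 then 1 else a) * (l : G) :=
      congrArg Subtype.val h
    have h4 : i = j := by
      fin_cases i <;> fin_cases j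
      · rfl
      · exfalso
        apply haK
        have h3 : (k : G) = a * l := by simpa using h2
        have : a = k * (l : G)⁻¹ := by rw [h3, mul_inv_cancel_right]
        rw [this]
        exact K.mul_mem k.2 (K.inv_mem l.2)
      · exfalso
        apply haK
        have h3 : a * k = (l : G) := by simpa using h2
        have : a = l * (k : G)⁻¹ := by rw [← h3, mul_inv_cancel_right]
        rw [this]
        exact K.mul_mem l.2 (K.inv_mem k.2)
      · rfl
    subst h4
    rw [Prod.mk.injEq]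
    exact ⟨rfl, Subtype.ext (mul_left_cancel h2)⟩
  rwa [Nat.card_prod, Nat.card_eq_fintype_card (α := Fin 2), Fintype.card_fin] at h1

section

variable {F : Frame G}

theorem E_sq {a : G} (ha : a ∈ F.E hex0) : a * a = 1 :=
  (F.E_elem hex0 HexMax.hex0_isHex).1 a ha

/-- a duad commuting with `n` -/
theorem duad_comm {n : NE F} {p q : GolayPt} (hpq : p ≠ q)
    (h : (n : G) * F.ε {p, q} = F.ε {p, q} * n) :
    (F.π n : Equiv.Perm GolayPt) p = p ∨ (F.π n : Equiv.Perm GolayPt) p = q := by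
  have h1 := F.π_smul n {p, q} (even_pair' hpq)
  rw [h, mul_inv_cancel_right] at h1
  have h2 := Orbits.ε_pair_inj F (Finset.card_pair hpq)
    (by rw [Finset.card_smul_finset, Finset.card_pair hpq]) h1
  have h3 : (F.π n : Equiv.Perm GolayPt) p ∈ (F.π n : Equiv.Perm GolayPt) • ({p, q} : Finset GolayPt) :=
    Finset.smul_mem_smul_finset (Finset.mem_insert_self _ _)
  rw [← h2, Finset.mem_insert, Finset.mem_singleton] at h3
  exact h3

theorem comm_duad {n : NE F} {p q : GolayPt} (hpq : p ≠ q)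
    (h1 : (F.π n : Equiv.Perm GolayPt) p = q) (h2 : (F.π n : Equiv.Perm GolayPt) q = p) :
    (n : G) * F.ε {p, q} = F.ε {p, q} * n := by
  have h3 := F.π_smul n {p, q} (even_pair' hpq)
  have h4 : (F.π n : Equiv.Perm GolayPt) • ({p, q} : Finset GolayPt) = {p, q} := by
    rw [Finset.smul_finset_insert, Finset.smul_finset_singleton]
    show ({(F.π n : Equiv.Perm GolayPt) p, (F.π n : Equiv.Perm GolayPt) q} : Finset GolayPt) = _
    rw [h1, h2, Finset.pair_comm]
  rw [h4] at h3
  exact mul_inv_eq_iff_eq_mul.1 h3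

theorem ε_pair_mul {x y z : GolayPt} (hxy : x ≠ y) (hxz : x ≠ z) (hyz : y ≠ z) :
    F.ε {x, y} * F.ε {x, z} = F.ε {y, z} := by
  rw [← c_du hxy, ← c_du hxz, ← c_du hyz, ← c_xor F (ev_du _ _) (ev_du _ _)]
  congr 2
  rw [← du_du y x z]
  congr 1
  exact Nat.xor_comm _ _

/-- `|C_W(n)| ≤ |W| / 4` if `π n` moves `x, y` -/
theorem four_mul_card [Finite G] {O : Finset GolayPt} {n : NE F} {x y z : GolayPt} (hx : x ∈ O)
    (hy : y ∈ O) (hz : z ∈ O) (hxy : x ≠ y) (hxz : x ≠ z) (hyz : y ≠ z)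
    (h1 : (F.π n : Equiv.Perm GolayPt) x ≠ x) (h2 : (F.π n : Equiv.Perm GolayPt) x ≠ y)
    (h3 : (F.π n : Equiv.Perm GolayPt) x ≠ z) (h4 : (F.π n : Equiv.Perm GolayPt) y ≠ y)
    (h5 : (F.π n : Equiv.Perm GolayPt) y ≠ z) :
    4 * Nat.card (WG F O ⊓ Subgroup.centralizer ({(n : G)} : Set G) : Subgroup G) ≤
      Nat.card (WG F O) := by
  apply four_mul_card_le inf_le_left (fun w hw => E_sq (WG_le O hw)) (duad_mem_WG hx hy hxy)
    (duad_mem_WG hx hz hxz)
  · rintro ⟨-, h⟩
    rcases duad_comm hxy (Subgroup.mem_centralizer_singleton_iff.1 h).symm with h | h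
    · exact h1 h
    · exact h2 h
  · rintro ⟨-, h⟩
    rcases duad_comm hxz (Subgroup.mem_centralizer_singleton_iff.1 h).symm with h | h
    · exact h1 h
    · exact h3 h
  · rw [ε_pair_mul hxy hxz hyz]
    rintro ⟨-, h⟩
    rcases duad_comm hyz (Subgroup.mem_centralizer_singleton_iff.1 h).symm with h | h
    · exact h4 h
    · exact h5 h

/-- `|C_W(n, m)| ≤ |C_W(n)| / 2` -/
theorem two_mul_card [Finite G] {O : Finset GolayPt} {n m : NE F} {x y : GolayPt} (hx : x ∈ O)
    (hy : y ∈ O) (hxy : x ≠ y) (h1 : (F.π n : Equiv.Perm GolayPt) x = y)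
    (h2 : (F.π n : Equiv.Perm GolayPt) y = x) (h3 : (F.π m : Equiv.Perm GolayPt) x ≠ x)
    (h4 : (F.π m : Equiv.Perm GolayPt) x ≠ y) :
    2 * Nat.card (WG F O ⊓ Subgroup.centralizer ({(n : G)} : Set G) ⊓
      Subgroup.centralizer ({(m : G)} : Set G) : Subgroup G) ≤
      Nat.card (WG F O ⊓ Subgroup.centralizer ({(n : G)} : Set G) : Subgroup G) := by
  apply two_mul_card_le inf_le_left (a := F.ε {x, y})
  · exact ⟨duad_mem_WG hx hy hxy,
      Subgroup.mem_centralizer_singleton_iff.2 (comm_duad hxy h1 h2).symm⟩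
  · rintro ⟨-, h⟩
    rcases duad_comm hxy (Subgroup.mem_centralizer_singleton_iff.1 h).symm with h | h
    · exact h3 h
    · exact h4 h

end

end Cfsg.Agent.H857.WGrp
end

-- part: H857/Classify
section
/-!
# Elementary abelian subgroups of order `2^10` of `N_G(E)` not contained in `E` (helper857)

`classify` : such a subgroup induces on the 24 points the pointwise stabiliser of an octad `O`, and meets `E` in `W(O)`.
-/

set_option autoImplicit false

open scoped Pointwise

namespace Cfsg.Agent.H857.Classify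

open Cfsg Cfsg.Agent.SporadicA.GolayBase Cfsg.Agent.SporadicA.OctadFix
open Cfsg.Agent.J4Type Cfsg.Agent.J4Type.CocodeMask Cfsg.Agent.J4Type.TauM24
open Cfsg.Agent.J4Type.TauMask Cfsg.Agent.J4Type.FrameDefs
open Cfsg.Agent.J4.M24InvolData Cfsg.Agent.J4.M24Invol
open Cfsg.Agent.H857.Fix Cfsg.Agent.H857.WGrp Cfsg.Agent.H857.Card

/-! ### `M24` -/

/-- the fixed points of an involution with a fixed point form an octad -/
theorem fix_octad {u : Equiv.Perm GolayPt} (hM : u ∈ M24) (hu : u * u = 1) (h1 : u ≠ 1)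
    {p₀ : GolayPt} (hp₀ : u p₀ = p₀) : (Finset.univ.filter fun p : GolayPt => u p = p) ∈ octads := by
  obtain ⟨a, ha⟩ := invol_conj ⟨u, hM⟩ (Subtype.ext hu) (fun h => h1 (congrArg Subtype.val h))
  have key : ∀ (v : M24), a * ⟨u, hM⟩ * a⁻¹ = v → ∀ p : GolayPt, u p = p ↔ v • (a • p) = a • p := by
    intro v hv p
    rw [← hv, mul_smul, mul_smul, inv_smul_smul, smul_left_cancel_iff]
    exact Iff.rfl
  rcases ha with ha | ha
  · have h2 : (Finset.univ.filter fun p : GolayPt => u p = p) = (a⁻¹ : M24) •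
        (Finset.univ.filter fun p : GolayPt =>
          pt (Cfsg.Agent.SporadicA.GolayPerm.papp P1 (idx p)) = p) := by
      ext p
      rw [Finset.mem_inv_smul_finset_iff, Finset.mem_filter, Finset.mem_filter, key _ ha p,
        Cfsg.Agent.SporadicStructure.M24El.el_smul_pt ok_P1]
      simp only [Finset.mem_univ, true_and]
    rw [h2]
    exact Cfsg.Agent.SporadicStructure.OctadStabM24.smul_octad (a⁻¹ : M24).2 FusionFact.fix_P1_octad
  · exfalso
    have := (key _ ha p₀).1 hp₀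
    rw [Cfsg.Agent.SporadicStructure.M24El.el_smul_pt ok_P2] at this
    exact FusionM22.fix_P2 _ this

theorem smul_eq_of_mapsTo {O : Finset GolayPt} {g : Equiv.Perm GolayPt} (h : ∀ x ∈ O, g x ∈ O) :
    g • O = O := by
  apply Finset.eq_of_subset_of_card_le
  · intro y hy
    obtain ⟨x, hx, rfl⟩ := Finset.mem_smul_finset.1 hy
    exact h x hx
  · rw [Finset.card_smul_finset]

/-- an element acting nontrivially on an octad is not a transposition on it -/
theorem exists_yz {O : Finset GolayPt} (hO : O ∈ octads) {g : Equiv.Perm GolayPt} (hM : g ∈ M24)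
    (hg : g * g = 1) (hgO : g • O = O) {x : GolayPt} (hx : x ∈ O) (hgx : g x ≠ x) :
    ∃ y ∈ O, ∃ z ∈ O, x ≠ y ∧ x ≠ z ∧ y ≠ z ∧ g x ≠ y ∧ g x ≠ z ∧ g y ≠ y ∧ g y ≠ z := by
  classical
  have hO8 : O.card = 8 := octad_card hO
  have hst := FusionM22.mem_iff_of_smul_eq hgO
  have hgg : ∀ p, g (g p) = p := fun p => by rw [← Equiv.Perm.mul_apply, hg]; rfl
  have hgxO : g x ∈ O := (hst x).2 hx
  have h1 : g x ∈ O.erase x := Finset.mem_erase.2 ⟨hgx, hgxO⟩
  have hO6 : ((O.erase x).erase (g x)).card = 6 := by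
    rw [Finset.card_erase_of_mem h1, Finset.card_erase_of_mem hx, hO8]
  by_cases hall : ∀ y ∈ (O.erase x).erase (g x), g y = y
  · exfalso
    obtain ⟨p, hp, q, hq, hpq⟩ := Finset.one_lt_card.1 (show 1 < ((O.erase x).erase (g x)).card by omega)
    have hpO := Finset.mem_of_mem_erase (Finset.mem_of_mem_erase hp)
    have hqO := Finset.mem_of_mem_erase (Finset.mem_of_mem_erase hq)
    have h2 := FusionM22.card_fix_octad hO hM (fun y _ => hgg y) hgO hpO hqO hpq (hall p hp) (hall q hq)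
      (fun h => hgx (h x hx))
    have h3 : ((O.erase x).erase (g x)).card ≤ (Finset.univ.filter fun y : ↥O => g y = y).card := by
      apply Finset.card_le_card_of_injOn
        (fun y => if hy : y ∈ O then (⟨y, hy⟩ : ↥O) else ⟨x, hx⟩)
      · intro y hy
        rw [Finset.mem_coe] at hy
        have hyO := Finset.mem_of_mem_erase (Finset.mem_of_mem_erase hy)
        simp only [Finset.coe_filter, Finset.mem_univ, true_and, Set.mem_ofPred_eq, dif_pos hyO]
        exact hall y hy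
      · intro y hy y' hy' h
        rw [Finset.mem_coe] at hy hy'
        have hyO := Finset.mem_of_mem_erase (Finset.mem_of_mem_erase hy)
        have hyO' := Finset.mem_of_mem_erase (Finset.mem_of_mem_erase hy')
        simp only [dif_pos hyO, dif_pos hyO'] at h
        exact congrArg Subtype.val h
    omega
  · push Not at hall
    obtain ⟨y, hy, hgy⟩ := hall
    rw [Finset.mem_erase, Finset.mem_erase] at hy
    obtain ⟨hy1, hy2, hyO⟩ := hy
    have hgyO : g y ∈ O := (hst y).2 hyO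
    obtain ⟨z, hz, hzn⟩ : ∃ z ∈ O, z ∉ ({x, g x, y, g y} : Finset GolayPt) := by
      by_contra hno
      push Not at hno
      have h4 := Finset.card_le_card (fun z hz => hno z hz : O ⊆ {x, g x, y, g y})
      have h5 := Finset.card_le_four (a := x) (b := g x) (c := y) (d := g y)
      omega
    simp only [Finset.mem_insert, Finset.mem_singleton, not_or] at hzn
    exact ⟨y, hyO, z, hz, fun h => hy2 h.symm, fun h => hzn.1 h.symm, fun h => hzn.2.2.1 h.symm,
      fun h => hy1 h.symm, fun h => hzn.2.1 h.symm, hgy, fun h => hzn.2.2.2 h.symm⟩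

/-- an involution commuting with the pointwise stabiliser of an octad lies in it -/
theorem mem_fixOct_of_comm {O : Finset GolayPt} (hO : O ∈ octads) {g : Equiv.Perm GolayPt}
    (hM : g ∈ M24) (hg : g * g = 1) (hgO : g • O = O) (hcomm : ∀ a ∈ fixOct O, a * g = g * a) :
    g ∈ fixOct O := by
  classical
  obtain ⟨p, hp⟩ := FusionComm.exists_out hO
  obtain ⟨t, ht, htp⟩ := FusionComm.exists_translate hO hgO hp
  have h1 : t * g * (t * g) = 1 := by
    have h2 := fixOct_sq hO ht
    calc t * g * (t * g) = t * (g * t) * g := by group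
      _ = t * (t * g) * g := by rw [← hcomm t ht]
      _ = (t * t) * (g * g) := by group
      _ = 1 := by rw [h2, hg, mul_one]
  have h3 : ∀ q, q ∉ O → (t * g) q = q := by
    intro q hq
    obtain ⟨a, ⟨ha, hap⟩, -⟩ := existsUnique_fixOct hO hp hq
    have h4 : t * g * a = a * (t * g) := by
      rw [mul_assoc, ← hcomm a ha, ← mul_assoc, FusionComm.fixOct_comm hO ht ha, mul_assoc]
    rw [← hap, ← Equiv.Perm.mul_apply, h4, Equiv.Perm.mul_apply, htp]
  have h5 : t * g = 1 := by
    by_contra hne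
    have h6 := FusionM22.card_fix (M24.mul_mem (mem_fixOct.1 ht).1 hM) h1 hne htp
    have h7 : (Finset.univ \ O).card ≤ (Finset.univ.filter fun p : GolayPt => (t * g) p = p).card := by
      apply Finset.card_le_card
      intro q hq
      rw [Finset.mem_sdiff] at hq
      rw [Finset.mem_filter]
      exact ⟨Finset.mem_univ _, h3 q hq.2⟩
    rw [Finset.card_sdiff_of_subset (Finset.subset_univ _), Finset.card_univ, HexMax.card24,
      octad_card hO] at h7
    omega
  rw [eq_inv_of_mul_eq_one_right h5]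
  exact (fixOct O).inv_mem ht

/-- a semiregular elementary abelian 2-subgroup has order at most 8 -/
theorem card_semireg (B : Subgroup (Equiv.Perm GolayPt)) (hsq : ∀ b ∈ B, b * b = 1)
    (hfree : ∀ b ∈ B, b ≠ 1 → ∀ p, b p ≠ p) : Nat.card B ≤ 8 := by
  classical
  let _ : Fintype B := Fintype.ofFinite B
  have hB := MulAction.sum_card_fixedBy_eq_card_orbits_mul_card_group B GolayPt
  have hf : ∀ g : B, Fintype.card (MulAction.fixedBy GolayPt g) = if g = 1 then 24 else 0 := by
    intro g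
    rw [Fintype.card_subtype]
    split_ifs with h
    · subst h
      simp only [MulAction.mem_fixedBy, one_smul]
      decide +kernel
    · rw [Finset.card_eq_zero, Finset.filter_eq_empty_iff]
      intro p _ hp
      exact hfree _ g.2 (fun h' => h (Subtype.ext h')) p hp
  rw [Finset.sum_congr rfl (fun g _ => hf g), Finset.sum_ite_eq' Finset.univ (1 : B),
    if_pos (Finset.mem_univ _)] at hB
  have h1 : Nat.card B ∣ 24 := by
    rw [Nat.card_eq_fintype_card, hB]
    exact Dvd.intro_left _ rfl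
  obtain ⟨k, hk⟩ := IsPGroup.iff_card.1 (FusionFact.isPGroup_of_sq hsq)
  rw [hk] at h1 ⊢
  have h2 : 2 ^ k ∣ 8 := by
    have h3 : Nat.Coprime (2 ^ k) 3 := Nat.Coprime.pow_left k (by norm_num)
    exact h3.dvd_of_dvd_mul_right (by norm_num; exact h1)
  exact Nat.le_of_dvd (by norm_num) h2

/-! ### The classification -/

variable {G : Type*} [Group G]

/-- a subgroup of `E` centralised by an element inducing a fixed point free involution -/
theorem card_le_of_free [Finite G] {F : Frame G} {n : NE F} (h1 : F.π n * F.π n = 1)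
    (hfree : ∀ p, (F.π n : Equiv.Perm GolayPt) p ≠ p) {D : Subgroup G} (hD : D ≤ F.E hex0)
    (hc : ∀ d ∈ D, (n : G) * d = d * n) : Nat.card D ≤ 64 := by
  classical
  have h2 := card_fixed_le h1 hfree
  have key : ∀ d : D, ∃ s, (s ∈ (Finset.range 4096).filter fun s =>
      ev s = true ∧ act (F.π n) s = s) ∧ (c F s : G) = d := by
    intro d
    obtain ⟨s, hs, h⟩ := exists_c F (hD d.2)
    refine ⟨s, ?_, h⟩
    rw [Finset.mem_filter, Finset.mem_range]
    refine ⟨((ev_iff s).1 hs).1, hs, ?_⟩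
    have h3 := conj_c F n hs
    rw [h, hc d d.2, mul_inv_cancel_right, ← h] at h3
    exact (c_inj F hs (ev_act _ hs) h3).symm
  choose f hf1 hf2 using key
  refine le_trans ?_ h2
  set Z : Finset ℕ := (Finset.range 4096).filter fun s => ev s = true ∧ act (F.π n) s = s with hZ
  have h4 : Nat.card D ≤ Nat.card Z :=
    Nat.card_le_card_of_injective (fun d => (⟨f d, hf1 d⟩ : Z)) (fun a b h => by
      have h' : f a = f b := congrArg Subtype.val h
      apply Subtype.ext
      rw [← hf2 a, ← hf2 b, h'])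
  rwa [Nat.card_eq_fintype_card (α := Z), Fintype.card_coe] at h4

theorem arith {d b w β S x : ℕ} (hdb : d * b = 1024) (h1 : d ≤ 2 * w) (h2 : 4 ≤ β → d ≤ w)
    (h3 : w ≤ 16) (h4 : 4 ≤ x → w ≤ 8) (h5 : b ≤ x * S) (h6 : S ≤ 4 * β) (h7 : 8 ≤ β → S ≤ β)
    (h8 : x = 8 → S ≤ β) (hβ : β = 2 ∨ β = 4 ∨ β = 8) (hx : x = 2 ∨ x = 4 ∨ x = 8) : False := by
  have key : ∀ d0 b0 : ℕ, d ≤ d0 → b ≤ b0 → d0 * b0 < 1024 → False := by
    intro d0 b0 hd hb h
    have := Nat.mul_le_mul hd hb
    omega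
  rcases hβ with rfl | rfl | rfl <;> rcases hx with rfl | rfl | rfl
  · exact key 32 16 (by omega) (by omega) (by norm_num)
  · exact key 16 32 (by omega) (by omega) (by norm_num)
  · exact key 16 16 (by omega) (by omega) (by norm_num)
  · exact key 16 32 (by omega) (by omega) (by norm_num)
  · exact key 8 64 (by omega) (by omega) (by norm_num)
  · exact key 8 32 (by omega) (by omega) (by norm_num)
  · exact key 16 16 (by omega) (by omega) (by norm_num)
  · exact key 8 32 (by omega) (by omega) (by norm_num)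
  · exact key 8 64 (by omega) (by omega) (by norm_num)

theorem classify [Finite G] (F : Frame G) {V : Subgroup G} (hV : ∀ a ∈ V, a * a = 1)
    (hVN : V ≤ Subgroup.normalizer (F.E hex0 : Set G)) (hcard : Nat.card V = 2 ^ 10)
    (hVE : ¬ V ≤ F.E hex0) : ∃ O ∈ octads, im F V = fixOct O ∧ V ⊓ F.E hex0 = WG F O := by
  classical
  have hBM : im F V ≤ M24 := im_le F V
  have hBsq : ∀ b ∈ im F V, b * b = 1 := im_sq F hV
  have hVcomm := comm_of_sq hV
  have hBcomm := comm_of_sq hBsq
  have hmul : Nat.card (V ⊓ F.E hex0 : Subgroup G) * Nat.card (im F V) = 1024 := by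
    rw [← card_eq_mul F hVN, hcard]; norm_num
  have hlift : ∀ b ∈ im F V, ∃ n : NE F, (n : G) ∈ V ∧ (F.π n : Equiv.Perm GolayPt) = b :=
    fun b hb => (mem_im F).1 hb
  have hDc : ∀ n : NE F, (n : G) ∈ V → ∀ d ∈ V ⊓ F.E hex0, (n : G) * d = d * n :=
    fun n hn d hd => hVcomm _ hn _ hd.1
  obtain ⟨n0, hn0V, hn0E⟩ := SetLike.not_le_iff_exists.1 hVE
  by_cases hfix : ∃ u ∈ im F V, u ≠ 1 ∧ ∃ p, u p = p
  swap
  · -- semiregular case
    exfalso
    push Not at hfix
    have h1 := card_semireg (im F V) hBsq hfix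
    have h2 : (F.π ⟨n0, hVN hn0V⟩ : Equiv.Perm GolayPt) ∈ im F V := (mem_im F).2 ⟨_, hn0V, rfl⟩
    have h3 : (F.π ⟨n0, hVN hn0V⟩ : Equiv.Perm GolayPt) ≠ 1 := by
      intro h
      exact hn0E ((F.π_ker ⟨n0, hVN hn0V⟩).1 (Subtype.ext h))
    have h4 : Nat.card (V ⊓ F.E hex0 : Subgroup G) ≤ 64 := by
      apply card_le_of_free (n := ⟨n0, hVN hn0V⟩) (Subtype.ext (hBsq _ h2)) (hfix _ h2 h3) inf_le_right
      exact hDc _ hn0V
    have := Nat.mul_le_mul h4 h1
    omega
  · obtain ⟨u, huB, hu1, p, hup⟩ := hfix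
    have hO := fix_octad (hBM huB) (hBsq u huB) hu1 hup
    set O : Finset GolayPt := Finset.univ.filter fun p : GolayPt => u p = p with hOdef
    have hmemO : ∀ x, x ∈ O ↔ u x = x := by
      intro x
      rw [hOdef, Finset.mem_filter]
      simp
    have huO : u ∈ fixOct O := mem_fixOct.2 ⟨hBM huB, fun x hx => (hmemO x).1 hx⟩
    have hst : ∀ b ∈ im F V, b • O = O := by
      intro b hb
      apply smul_eq_of_mapsTo
      intro x hx
      rw [hmemO] at hx ⊢
      rw [← Equiv.Perm.mul_apply, hBcomm u huB b hb, Equiv.Perm.mul_apply, hx]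
    obtain ⟨nu, hnuV, hnu⟩ := hlift u huB
    have hnu1 : F.π nu ≠ 1 := fun h => hu1 (by rw [← hnu, h]; rfl)
    obtain ⟨q, hq⟩ := FusionComm.exists_out hO
    have hD1 : Nat.card (V ⊓ F.E hex0 : Subgroup G) ≤
        2 * Nat.card (V ⊓ F.E hex0 ⊓ WG F O : Subgroup G) := by
      apply FusionOne.card_le_two_mul
      intro a ha b hb haW hbW
      have h1 := (cases_of_comm hO (hnu ▸ huO) hnu1 hq ha.2 (hDc nu hnuV a ha)).resolve_left haW
      have h2 := (cases_of_comm hO (hnu ▸ huO) hnu1 hq hb.2 (hDc nu hnuV b hb)).resolve_left hbW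
      have h3 := (WG F O).mul_mem ((WG F O).inv_mem h1) h2
      have hne : q ≠ (F.π nu : Equiv.Perm GolayPt) q := by
        intro h
        apply hnu1
        exact Subtype.ext (OctadFixTrans.eq_one_of_fix hO (hnu ▸ huO) hq h.symm)
      have hεE := F.ε_mem {q, (F.π nu : Equiv.Perm GolayPt) q} (even_pair' hne)
      have h4 := (F.E_elem hex0 HexMax.hex0_isHex).2 _ ((F.E hex0).mul_mem ((F.E hex0).inv_mem ha.2) hb.2)
        _ hεE
      have h5 := ε_sq F (even_pair' hne)
      have e : (a * F.ε {q, (F.π nu : Equiv.Perm GolayPt) q})⁻¹ *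
          (b * F.ε {q, (F.π nu : Equiv.Perm GolayPt) q}) = a⁻¹ * b := by
        rw [mul_inv_rev, mul_assoc, ← mul_assoc a⁻¹, h4, ← mul_assoc, inv_mul_cancel, one_mul]
      rwa [e] at h3
    have hD2 : 4 ≤ Nat.card (im F V ⊓ fixOct O : Subgroup (Equiv.Perm GolayPt)) →
        V ⊓ F.E hex0 ≤ WG F O := by
      intro h4 d hd
      obtain ⟨a, ha, b, hb, ha1, hb1, hab⟩ := FusionFact.exists_two_of_card h4
      obtain ⟨na, hna, hna'⟩ := hlift a ha.1
      obtain ⟨nb, hnb, hnb'⟩ := hlift b hb.1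
      exact mem_WG_of_comm hO (n := na) (m := nb) (hna' ▸ ha.2)
        (fun h => ha1 (by rw [← hna', h]; rfl)) (hnb' ▸ hb.2) (fun h => hb1 (by rw [← hnb', h]; rfl))
        (fun h => hab (by rw [← hna', ← hnb', h])) hd.2 (hDc na hna d hd) (hDc nb hnb d hd)
    have hW64 := card_WG_le (F := F) hO
    have hβ : Nat.card (im F V ⊓ fixOct O : Subgroup (Equiv.Perm GolayPt)) = 2 ∨
        Nat.card (im F V ⊓ fixOct O : Subgroup (Equiv.Perm GolayPt)) = 4 ∨
        Nat.card (im F V ⊓ fixOct O : Subgroup (Equiv.Perm GolayPt)) = 8 ∨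
        Nat.card (im F V ⊓ fixOct O : Subgroup (Equiv.Perm GolayPt)) = 16 := by
      have h1 : Nat.card (im F V ⊓ fixOct O : Subgroup (Equiv.Perm GolayPt)) ∣ 2 ^ 4 := by
        have := Subgroup.card_dvd_of_le (inf_le_right : im F V ⊓ fixOct O ≤ fixOct O)
        rwa [card_fixOct hO] at this
      have h2 : 1 < Nat.card (im F V ⊓ fixOct O : Subgroup (Equiv.Perm GolayPt)) := by
        rw [Subgroup.one_lt_card_iff_ne_bot]
        intro h
        have h3 : u ∈ im F V ⊓ fixOct O := ⟨huB, huO⟩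
        rw [h, Subgroup.mem_bot] at h3
        exact hu1 h3
      obtain ⟨k, hk, h3⟩ := (Nat.dvd_prime_pow Nat.prime_two).1 h1
      rw [h3] at h2 ⊢
      interval_cases k
      · norm_num at h2
      · left; norm_num
      · right; left; norm_num
      · right; right; left; norm_num
      · right; right; right; norm_num
    by_cases hin : im F V ≤ fixOct O
    · rw [inf_eq_left.2 hin] at hβ hD2
      have hDW : Nat.card (V ⊓ F.E hex0 ⊓ WG F O : Subgroup G) ≤ 64 :=
        (Nat.card_le_card_of_injective _ (Subgroup.inclusion_injective inf_le_right)).trans hW64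
      rcases hβ with h | h | h | h
      · exfalso
        rw [h] at hmul
        omega
      · exfalso
        rw [h] at hmul
        have := Subgroup.card_le_of_le (hD2 (by omega))
        omega
      · exfalso
        rw [h] at hmul
        have := Subgroup.card_le_of_le (hD2 (by omega))
        omega
      · refine ⟨O, hO, ?_, ?_⟩
        · exact Subgroup.eq_of_le_of_card_ge hin (by rw [h, card_fixOct hO])
        · apply Subgroup.eq_of_le_of_card_ge (hD2 (by omega))
          rw [h] at hmul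
          omega
    · exfalso
      obtain ⟨c, hcB, hcO⟩ := SetLike.not_le_iff_exists.1 hin
      obtain ⟨x, hx, hcx⟩ : ∃ x ∈ O, c x ≠ x := by
        by_contra hno
        push Not at hno
        exact hcO (mem_fixOct.2 ⟨hBM hcB, hno⟩)
      obtain ⟨y, hy, z, hz, hxy, hxz, hyz, hc1, hc2, hc3, hc4⟩ :=
        exists_yz hO (hBM hcB) (hBsq c hcB) (hst c hcB) hx hcx
      obtain ⟨nc, hncV, hnc⟩ := hlift c hcB
      have hcc : ∀ p, c (c p) = p := fun p => by
        rw [← Equiv.Perm.mul_apply, hBsq c hcB]; rfl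
      have hcxO : c x ∈ O := (FusionM22.mem_iff_of_smul_eq (hst c hcB) x).2 hx
      have h16 := four_mul_card (F := F) (n := nc) hx hy hz hxy hxz hyz (by rwa [hnc]) (by rwa [hnc])
        (by rwa [hnc]) (by rwa [hnc]) (by rwa [hnc])
      have hDW16 : Nat.card (V ⊓ F.E hex0 ⊓ WG F O : Subgroup G) ≤ 16 := by
        have h1 : V ⊓ F.E hex0 ⊓ WG F O ≤ WG F O ⊓ Subgroup.centralizer ({(nc : G)} : Set G) := by
          intro d hd
          exact ⟨hd.2, Subgroup.mem_centralizer_singleton_iff.2 (hDc nc hncV d hd.1).symm⟩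
        have h2 := Subgroup.card_le_of_le h1
        omega
      let S : Subgroup (Equiv.Perm GolayPt) :=
        im F V ⊓ MulAction.stabilizer (Equiv.Perm GolayPt) x
      have hSx : ∀ s ∈ S, s x = x := fun s hs => hs.2
      have hScx : ∀ s ∈ S, s (c x) = c x := by
        intro s hs
        rw [← Equiv.Perm.mul_apply, hBcomm s hs.1 c hcB, Equiv.Perm.mul_apply, hSx s hs]
      have hSle : S ⊓ fixOct O ≤ im F V ⊓ fixOct O := inf_le_inf inf_le_left le_rfl
      have hS4 : Nat.card S ≤ 4 * Nat.card (im F V ⊓ fixOct O : Subgroup (Equiv.Perm GolayPt)) := by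
        have h1 := FusionM22.card_le_four_mul S (inf_le_left.trans hBM) (fun g hg => hBsq g hg.1) hO
          (fun g hg => hst g hg.1) hx hcxO (Ne.symm hcx) hSx hScx
        have h2 := Subgroup.card_le_of_le hSle
        omega
      have hSfix : S ≤ fixOct O →
          Nat.card S ≤ Nat.card (im F V ⊓ fixOct O : Subgroup (Equiv.Perm GolayPt)) := by
        intro h
        exact Subgroup.card_le_of_le (le_inf inf_le_left h)
      have hS8 : 8 ≤ Nat.card (im F V ⊓ fixOct O : Subgroup (Equiv.Perm GolayPt)) →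
          Nat.card S ≤ Nat.card (im F V ⊓ fixOct O : Subgroup (Equiv.Perm GolayPt)) := by
        intro h8
        apply hSfix
        intro s hs
        by_contra hsO
        have h1 := FusionComm.card_comm_le_four hO (im F V ⊓ fixOct O) inf_le_right
          (hBM hs.1) (hst s hs.1) (fun a ha => hBcomm a ha.1 s hs.1) hx hcxO (Ne.symm hcx)
          (hSx s hs) (hScx s hs)
          (fun w _ => by rw [← Equiv.Perm.mul_apply, hBsq s hs.1]; rfl)
          (fun h => hsO (mem_fixOct.2 ⟨hBM hs.1, h⟩))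
        omega
      have h16' : Nat.card (im F V ⊓ fixOct O : Subgroup (Equiv.Perm GolayPt)) ≠ 16 := by
        intro h
        have h1 : im F V ⊓ fixOct O = fixOct O :=
          Subgroup.eq_of_le_of_card_ge inf_le_right (by rw [h, card_fixOct hO])
        have h2 : fixOct O ≤ im F V := by rw [← h1]; exact inf_le_left
        exact hcO (mem_fixOct_of_comm hO (hBM hcB) (hBsq c hcB) (hst c hcB)
          (fun a ha => hBcomm a (h2 ha) c hcB))
      -- the orbit of `x`
      let X : Finset GolayPt := O.filter fun w => ∃ b ∈ im F V, b x = w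
      have hXO : X ⊆ O := Finset.filter_subset _ _
      have hXmem : ∀ b ∈ im F V, b x ∈ X := by
        intro b hb
        rw [Finset.mem_filter]
        exact ⟨(FusionM22.mem_iff_of_smul_eq (hst b hb) x).2 hx, b, hb, rfl⟩
      have hbX : Nat.card (im F V) ≤ X.card * Nat.card S := card_le_orbit _ x X hXmem
      have hXcard : X.card = 2 ∨ X.card = 4 ∨ X.card = 8 := by
        have h1 : Nat.card (MulAction.orbit (im F V) x) = X.card := by
          have h2 : (MulAction.orbit (im F V) x : Set GolayPt) = (X : Set GolayPt) := by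
            ext w
            constructor
            · rintro ⟨b, rfl⟩
              exact hXmem b b.2
            · intro hw
              rw [Finset.mem_coe, Finset.mem_filter] at hw
              obtain ⟨-, b, hb, rfl⟩ := hw
              exact ⟨⟨b, hb⟩, rfl⟩
          rw [h2]
          simp
        have h3 : X.card ∣ Nat.card (im F V) := by
          rw [← h1, ← Nat.card_congr (MulAction.orbitProdStabilizerEquivGroup (im F V) x), Nat.card_prod]
          exact Dvd.intro _ rfl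
        obtain ⟨k, hk⟩ := IsPGroup.iff_card.1 (FusionFact.isPGroup_of_sq hBsq)
        rw [hk] at h3
        obtain ⟨j, -, hj⟩ := (Nat.dvd_prime_pow Nat.prime_two).1 h3
        have h4 : X.card ≤ 8 := by
          rw [← octad_card hO]
          exact Finset.card_le_card hXO
        have h5 : 1 < X.card := by
          rw [Finset.one_lt_card]
          exact ⟨x, hXmem 1 (im F V).one_mem, c x, hXmem c hcB, Ne.symm hcx⟩
        rw [hj] at h4 h5 ⊢
        have h6 : j ≤ 3 := by
          by_contra h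
          have : 2 ^ 4 ≤ 2 ^ j := Nat.pow_le_pow_right (by norm_num) (by omega)
          omega
        interval_cases j
        · norm_num at h5
        · left; norm_num
        · right; left; norm_num
        · right; right; norm_num
      have hXS : X.card = 8 → Nat.card S ≤
          Nat.card (im F V ⊓ fixOct O : Subgroup (Equiv.Perm GolayPt)) := by
        intro h8
        apply hSfix
        intro s hs
        have h1 : X = O := Finset.eq_of_subset_of_card_le hXO (by rw [h8, octad_card hO])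
        refine mem_fixOct.2 ⟨hBM hs.1, fun w hw => ?_⟩
        rw [← h1, Finset.mem_filter] at hw
        obtain ⟨-, b, hb, rfl⟩ := hw
        rw [← Equiv.Perm.mul_apply, hBcomm s hs.1 b hb, Equiv.Perm.mul_apply, hSx s hs]
      have hDW8 : 4 ≤ X.card → Nat.card (V ⊓ F.E hex0 ⊓ WG F O : Subgroup G) ≤ 8 := by
        intro h4
        obtain ⟨w, hwX, hw⟩ : ∃ w ∈ X, w ∉ ({x, c x} : Finset GolayPt) := by
          by_contra hno
          push Not at hno
          have h5 := Finset.card_le_card (fun z hz => hno z hz : X ⊆ {x, c x})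
          have h6 := Finset.card_le_two (a := x) (b := c x)
          omega
        rw [Finset.mem_filter] at hwX
        obtain ⟨-, b, hb, rfl⟩ := hwX
        simp only [Finset.mem_insert, Finset.mem_singleton, not_or] at hw
        obtain ⟨nb, hnbV, hnb⟩ := hlift b hb
        have h7 := two_mul_card (F := F) (O := O) (n := nc) (m := nb) hx hcxO (Ne.symm hcx)
          (by rw [hnc]) (by rw [hnc, hcc]) (by rw [hnb]; exact hw.1) (by rw [hnb]; exact hw.2)
        have h8 : V ⊓ F.E hex0 ⊓ WG F O ≤ WG F O ⊓ Subgroup.centralizer ({(nc : G)} : Set G) ⊓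
            Subgroup.centralizer ({(nb : G)} : Set G) := by
          intro d hd
          exact ⟨⟨hd.2, Subgroup.mem_centralizer_singleton_iff.2 (hDc nc hncV d hd.1).symm⟩,
            Subgroup.mem_centralizer_singleton_iff.2 (hDc nb hnbV d hd.1).symm⟩
        have h9 := Subgroup.card_le_of_le h8
        omega
      refine arith hmul hD1 (fun h => ?_) hDW16 hDW8 hbX hS4 hS8 hXS ?_ hXcard
      · exact Subgroup.card_le_of_le (le_inf le_rfl (hD2 h))
      · rcases hβ with h | h | h | h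
        · exact Or.inl h
        · exact Or.inr (Or.inl h)
        · exact Or.inr (Or.inr h)
        · exact absurd h h16'

end Cfsg.Agent.H857.Classify
end
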