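import Cfsg.Agent.H857.T10Data_mg
import Cfsg.Agent.H857.Orbits
import Cfsg.Agent.H857.Duad
import Cfsg.Agent.H857.EA
import Cfsg.Agent.S0360
import Cfsg.Agent.S0364
import Cfsg.Agent.S0367
import Cfsg.Agent.AGraded.HomFinite
import Cfsg.Agent.SylowL5.Coords
import Cfsg.Agent.J4.ClassesAbs
import Cfsg.Agent.H856.Bridge
import Cfsg.Agent.H856.ToHyp
set_option linter.all false

-- part: H857/T10Rel
section
/-!
# J₄: the relations between the transvections of `L₅(2)` and the basis of `2^10` (helper857)

`rel5` : in the presented group J₄ the 50 words of `T10Data.ws` satisfy the Steinberg relations of type `A₄` over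
`GF(2)` and the action relations of the exterior square.
-/

set_option autoImplicit false

namespace Cfsg.Agent.H857.T10Rel

open Cfsg Cfsg.Agent.Lib.F2MatGroup Cfsg.Agent.J4.Rep112 Cfsg.Agent.J4.RepData
open Cfsg.Agent.H857.T10Data

/-! ### programs made of independent words -/

/-- the words of the list, as a straight line program -/
def sprog : ℕ → List (List ℕ) → List (List ℕ)
  | _, [] => []
  | k, w :: ws => w.map (fun i => i + k) :: sprog (k + 1) ws

section

variable {G : Type*} [Group G]

theorem getG_shift (P L : List G) (i : ℕ) : getG (P ++ L) (i + P.length) = getG L i := by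
  induction P with
  | nil => rfl
  | cons a P ih =>
    show getG (a :: (P ++ L)) (i + (P.length + 1)) = _
    rw [← add_assoc]
    exact ih

theorem evG_shift (P L : List G) (w : List ℕ) :
    evG (P ++ L) (w.map (fun i => i + P.length)) = evG L w := by
  induction w with
  | nil => rfl
  | cons a w ih => rw [List.map_cons, evG_cons, evG_cons, ih, getG_shift]

theorem runG_sprog (ws : List (List ℕ)) (P L : List G) :
    runG (sprog P.length ws) (P ++ L) = (ws.map (evG L)).reverse ++ (P ++ L) := by
  induction ws generalizing P with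
  | nil => rfl
  | cons w ws ih =>
    rw [sprog, runG_cons, evG_shift, ← List.cons_append,
      show P.length + 1 = (evG L w :: P).length from rfl, ih, List.map_cons, List.reverse_cons,
      List.append_assoc]
    rfl

/-- the value of the `n`-th word -/
def val (L : List G) (n : ℕ) : G := evG L (ws.getD n [])

theorem ws_length : ws.length = 50 := by decide +kernel

theorem getG_run (L : List G) {n : ℕ} (hn : n < 50) :
    getG (runG (sprog 0 ws) L) (49 - n) = val L n := by
  have h := runG_sprog ws [] L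
  rw [List.nil_append, List.length_nil] at h
  rw [h]
  unfold getG val
  have h1 : 49 - n < ((ws.map (evG L)).reverse).length := by
    rw [List.length_reverse, List.length_map, ws_length]; omega
  rw [List.getD_append _ _ _ _ h1, List.getD_eq_getElem _ _ h1, List.getElem_reverse]
  have h2 : n < ws.length := by rw [ws_length]; exact hn
  rw [List.getElem_map, List.getD_eq_getElem _ _ h2]
  congr 2
  rw [List.length_map, ws_length]
  omega

theorem val_map {H : Type*} [Group H] (f : G →* H) (L : List G) (n : ℕ) :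
    val (L.map f) n = f (val L n) := evG_map f L _

end

/-! ### the relations -/

/-- index of a transvection -/
def ix (i j : ℕ) : ℕ := 49 - (5 * i + j)
/-- index of a basis element -/
def iy (k l : ℕ) : ℕ := 49 - (25 + (5 * k + l))

/-- the relations for a given quadruple -/
def pr (i j k l : ℕ) : List (List ℕ × List ℕ) :=
  bif Nat.beq i j || Nat.beq k l then [] else
  [([iy k l], [iy l k]), ([iy i j, iy k l], [iy k l, iy i j]),
    ([ix i j, iy k l, ix i j], bif Nat.beq j l && !(Nat.beq i k) then [iy k l, iy k i]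
      else bif Nat.beq j k && !(Nat.beq i l) then [iy k l, iy i l] else [iy k l])] ++
  (bif Nat.beq i k && Nat.beq j l then [([ix i j, ix i j], []), ([iy i j, iy i j], [])] else []) ++
  (bif Nat.beq j k then (bif Nat.beq i l then [] else
    [([ix i j, ix k l, ix i j, ix k l], [ix i l])]) else
    (bif Nat.beq i l then [] else [([ix i j, ix k l], [ix k l, ix i j])]))

/-- all relations -/
def es : List (List ℕ × List ℕ) :=
  (List.range 5).flatMap fun i => (List.range 5).flatMap fun j =>
    (List.range 5).flatMap fun k => (List.range 5).flatMap fun l => pr i j k l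

theorem mem_es {i j k l : ℕ} (hi : i < 5) (hj : j < 5) (hk : k < 5) (hl : l < 5)
    {p : List ℕ × List ℕ} (hp : p ∈ pr i j k l) : p ∈ es := by
  unfold es
  simp only [List.mem_flatMap, List.mem_range]
  exact ⟨i, hi, j, hj, k, hk, l, hl, hp⟩

/-- packed matrices of the letters -/
def codes5 : List ℕ := [S, X, Y, YI, T]

theorem check_ok : check 112 codes5 (sprog 0 ws) es [] = true := by decide +kernel

/-- the letters -/
def gens5 : List Cfsg.Spor.J4 := [Cfsg.Agent.J4.Invol.s, x, y, y⁻¹, t]

theorem codes_cast {n : ℕ} {g : GL (Fin n) (ZMod 2)} {A B : ℕ} (h : Codes n g A)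
    (e : Nat.beq A B = true) : Codes n g B := Nat.eq_of_beq_eq_true e ▸ h

theorem cS : Codes 112 (rho Cfsg.Agent.J4.Invol.s) S := by
  have h : rho Cfsg.Agent.J4.Invol.s = (yg * ((yg * xg) ^ 4 * yg⁻¹ * xg)⁻¹ * tg *
      ((yg * xg) ^ 4 * yg⁻¹ * xg)) ^ 3 := by
    simp only [Cfsg.Agent.J4.Invol.s, Cfsg.Agent.J4.Invol.wJ, map_pow, map_mul, map_inv, rho_x, rho_y,
      rho_t]
  rw [h]
  simp only [mul_inv_rev, inv_inv, ← inv_pow]
  apply codes_cast
  · codes_tac
  · decide +kernel

theorem codes_gens5 : List.Forall₂ (Codes 112) (gens5.map rho) codes5 := by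
  unfold gens5 codes5
  simp only [List.map_cons, List.map_nil, map_inv, rho_x, rho_y, rho_t]
  exact .cons cS (.cons cx (.cons cy (.cons cy' (.cons ct .nil))))

theorem es_ok (inj : Function.Injective rho) :
    ∀ p ∈ es, evG (runG (sprog 0 ws) gens5) p.1 = evG (runG (sprog 0 ws) gens5) p.2 := by
  intro p hp
  have h := (check_sound (by norm_num) codes_gens5 check_ok).1 p hp
  rw [runG_map, evG_map, evG_map] at h
  exact inj h

/-- the relations of the transvections `X i j` and of the basis `E k l` -/
structure Rel5 {G : Type*} [Group G] (X E : Fin 5 → Fin 5 → G) : Prop where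
  sq : ∀ i j, i ≠ j → X i j * X i j = 1
  comm : ∀ i j k l, i ≠ j → k ≠ l → j ≠ k → i ≠ l → X i j * X k l = X k l * X i j
  br : ∀ i j l, i ≠ j → j ≠ l → i ≠ l → X i j * X j l * X i j * X j l = X i l
  symm : ∀ k l, k ≠ l → E k l = E l k
  esq : ∀ k l, k ≠ l → E k l * E k l = 1
  ecomm : ∀ i j k l, i ≠ j → k ≠ l → E i j * E k l = E k l * E i j
  act1 : ∀ i j k, i ≠ j → k ≠ j → i ≠ k → X i j * E k j * X i j = E k j * E k i
  act2 : ∀ i j, i ≠ j → X i j * E i j * X i j = E i j
  act3 : ∀ i j k l, i ≠ j → k ≠ l → j ≠ k → j ≠ l → X i j * E k l * X i j = E k l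

section

variable {G : Type*} [Group G]

/-- the transvections -/
def X (L : List G) (i j : Fin 5) : G := val L (5 * i + j)
/-- the basis elements -/
def E (L : List G) (k l : Fin 5) : G := val L (25 + (5 * k + l))

theorem getG_ix (L : List G) (i j : Fin 5) : getG (runG (sprog 0 ws) L) (ix i j) = X L i j :=
  getG_run L (by omega)

theorem getG_iy (L : List G) (k l : Fin 5) : getG (runG (sprog 0 ws) L) (iy k l) = E L k l :=
  getG_run L (by omega)

theorem beq_ne {a b : Fin 5} (h : a ≠ b) : Nat.beq (a : ℕ) (b : ℕ) = false := by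
  rcases hb : Nat.beq (a : ℕ) (b : ℕ) with _ | _
  · rfl
  · exact absurd (Fin.ext (Nat.eq_of_beq_eq_true hb)) h

theorem rel5 (L : List G)
    (h : ∀ p ∈ es, evG (runG (sprog 0 ws) L) p.1 = evG (runG (sprog 0 ws) L) p.2) :
    Rel5 (X L) (E L) := by
  have key : ∀ (i j k l : Fin 5) (p : List ℕ × List ℕ), p ∈ pr i j k l →
      evG (runG (sprog 0 ws) L) p.1 = evG (runG (sprog 0 ws) L) p.2 :=
    fun i j k l p hp => h p (mem_es i.2 j.2 k.2 l.2 hp)
  refine ⟨?_, ?_, ?_, ?_, ?_, ?_, ?_, ?_, ?_⟩
  · intro i j hij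
    have := key i j i j ([ix i j, ix i j], []) (by
      simp [pr, beq_ne hij, beq_ne hij.symm])
    simpa only [evG_cons, evG_nil, mul_one, getG_ix] using this
  · intro i j k l hij hkl hjk hil
    have := key i j k l ([ix i j, ix k l], [ix k l, ix i j]) (by
      simp [pr, beq_ne hij, beq_ne hkl, beq_ne hjk, beq_ne hil])
    simpa only [evG_cons, evG_nil, mul_one, getG_ix] using this
  · intro i j l hij hjl hil
    have := key i j j l ([ix i j, ix j l, ix i j, ix j l], [ix i l]) (by
      simp [pr, beq_ne hij, beq_ne hjl, beq_ne hil])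
    simpa only [evG_cons, evG_nil, mul_one, getG_ix, ← mul_assoc] using this
  · intro k l hkl
    have := key k l k l ([iy k l], [iy l k]) (by
      simp [pr, beq_ne hkl])
    simpa only [evG_cons, evG_nil, mul_one, getG_iy] using this
  · intro k l hkl
    have := key k l k l ([iy k l, iy k l], []) (by
      simp [pr, beq_ne hkl])
    simpa only [evG_cons, evG_nil, mul_one, getG_iy] using this
  · intro i j k l hij hkl
    have := key i j k l ([iy i j, iy k l], [iy k l, iy i j]) (by
      simp [pr, beq_ne hij, beq_ne hkl])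
    simpa only [evG_cons, evG_nil, mul_one, getG_iy] using this
  · intro i j k hij hkj hik
    have := key i j k j ([ix i j, iy k j, ix i j], [iy k j, iy k i]) (by
      simp [pr, beq_ne hij, beq_ne hkj, beq_ne hik])
    simpa only [evG_cons, evG_nil, mul_one, getG_iy, getG_ix, ← mul_assoc] using this
  · intro i j hij
    have := key i j i j ([ix i j, iy i j, ix i j], [iy i j]) (by
      simp [pr, beq_ne hij, beq_ne hij.symm])
    simpa only [evG_cons, evG_nil, mul_one, getG_iy, getG_ix, ← mul_assoc] using this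
  · intro i j k l hij hkl hjk hjl
    have := key i j k l ([ix i j, iy k l, ix i j], [iy k l]) (by
      simp [pr, beq_ne hij, beq_ne hkl, beq_ne hjk, beq_ne hjl])
    simpa only [evG_cons, evG_nil, mul_one, getG_iy, getG_ix, ← mul_assoc] using this

/-- the relations hold in the images of J₄ -/
theorem rel5_of_hom (inj : Function.Injective rho) (f : Cfsg.Spor.J4 →* G) :
    Rel5 (X (gens5.map f)) (E (gens5.map f)) := by
  apply rel5
  intro p hp
  rw [runG_map, evG_map, evG_map, es_ok inj p hp]

end

end Cfsg.Agent.H857.T10Rel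
end

-- part: H857/T10Tab
section
/-!
# Orbit tables for the exterior square of `GF(2)^5` (helper857, generated)
-/

set_option autoImplicit false

namespace Cfsg.Agent.H857.T10Tab

/-- the orbit of the decomposable bivectors (fields of 10 bits) -/
def arrA : ℕ := nat_lit 30887586511408238366758070187412274922245215055688420748691781550718730871836817636883404119416548829650689973382060378735662559755119921208467496185319861342581182822133212024406048106502563999587503045141504509830024356879883992606385419159063759433027576420509230507772653980276838867936355265733341920149636253431694606679733208453337003564896466374443821452413813825436532653586069702846339956619417243962395256734453239967031308679490378245526816199679453176833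
/-- parents -/
def parA : ℕ := nat_lit 5133328948285941785959221947933707669437359818016280359252259462434272646588269976686486289649698901069603485084382733020468198291071582549357868271231768478758209190403548236861834399508565155195678594980664644896149429159179850999639748881092208323638717520906795631173593615323326850841648623121212759438907762131127698091943906311890346205571608455102838167609623842167747833715934264912308498393034014321369080826166453266643755416927738437293459765941810233344
/-- letters `5 * i + j` -/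
def letA : ℕ := nat_lit 347235965332880803072394457571451209170346994132006239358439262016459904622404644344481524896608121284912693835076138785461211132354428686603025675317075999154889941543934330746163323260266038316381011110372103203303755106774536041472685491817661697480508251665400833086501400536651529584131859714646979534880074505053520085495119299261456736668718227183249483526884588625371588015029622635163173171628013594256922263672889861937687177636816053881059065952723806208
/-- the orbit of the indecomposable bivectors (fields of 10 bits) -/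
def arrB : ℕ := nat_lit 2736844416796949726699345064382753903887465110157332413604841955796572601570309311730610856999601218039561486678730987420148014193900067454818333665121602249972756634903472971763908875290533702527139298979004208230800730075612918708125688400876303533307243668152537726090376129359130900306873399753547856853835297604710185117609064548065554163535422335322786090856168904740709233840694018645521526619813437190401747917169548787713399220631902991097973119102906716370605763037901950596273535015665865360904317506788439517509754098302006776328910862268587259122343763944570154802239338958874574953678854515227884578614380137365411201106853323547971991982672366050986030536964728388353505086976662531196330232534107767005225417948157618409177226537712243672475496297800807490110706188937460431472934698048589859220606620684926068241264182572021418659802529180231085666379022492677488287517306883792357691393035641456572365138703514283685338288404867136292173604069715990942781327772565914908866845054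74455600678674244970639374929557369208534209198863781752490669053733108745714853186539786193176064433251480932602365421681105364727712083908218350146806989371445657092583819587290521873660685827947269192799074539022386405373654193853855323802695322167688879031818562792553119945016387766997622746043237976813885640176955213091617955439058728861024067741008304811491856612007456785855633266278543401638171205443654993398239240537502421378669572928643702511153690606552795452645427638466432010244738705658655054260079599110994697791015436401644735635909692228421455377121797019480326735397840140074008751994500145546629072951500054143358208528819355968426284400232558959736571638829731462907746082559639009834230997113313102899153994372013829750529030817925986334485366925319059845856125105232369209406286058514341347264082313633790333003544618749153979346840683210953802109098502156359367763446900099865771937653895670219512408947735669182714285790675669585373485494050912318877981129156097248743198557520989877569099785846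269596118599349725913269831589827680859277796683561736669135086886323602201460481124396465983635362788151934108247044858831663114920811975434878387648992156134501330001670052094177012569604547675870131575516676579109128157248941050762071594181026135810840615769281780501120005761414015733589871044190204764345662529626206944917477561107633226625515735497066586117800610773488071247667158751070941431315471702519020666642719821575625184278887073055811995119636422693157556763740319475612435674172093889205327341852269608129795890804273422478069776933620418148773039515891400509021271070394576922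
def parB : ℕ := nat_lit 5836825119874815861022699276522079913032577310832079522337297028101425085538529199729053341267216007915177680009623513679659689586758721015171881433957936379137292907747649217432694352384013240920751970312934210763499486766274202284826148445753834040025925573295598058821170235221815734114361402298211137663347106144268934549206056920445761478264295049216715125716391596675306376495673593909766932541215553502121107900836540331157205154909375899085373330674487234259009482076836595778818341474345181257713579639471331769270142265987294259225846258471717079920935094992801436216079491456717299885356677419547544356000394036563470855541610191211149787069727836092184369049321360912434292816259395995515943477192231802075641291789699850497431385329909218182920991105242618318566901285755278503624923491436140571327787001595893055379718446786931245292364927105915106448739293290476939417851308398092632329298121007810398040440148321893356695297100778861145051309852379482513094124557318597809740523618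16965764006647306392723839189839631403443006797708966815301842220537582227462299360607195513902015109969735754328359238994902552307670559302561856967531766259988611784486695730542739358095758216421801267662342201482245473499045100339137914177213406847800700311183291983722371911308468667414126508438481890308804594183340678153679613157182752227432120370190481325019866557988497536296630540835518421276195664224910524975571511848594251794386583927184116918663331422222548384785230500086408850625444061855660747652772029232151136654176047694095677752271774160930827508665970964863545054067653908954347041139823472102829943557343314292246539283393996061218255665537021478089351931791844472264491586170492476261615780199871662509351308993100332179513494026978216592878862957399961606743833294326534573116819108958430540442421000977301378489360198379400766987764933042325996111859569992742447375254677153986442768288652887530211853562743384385279555879141217020014470830023075573696321286087480288841513586441717880499445610626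111589143254331289953861374384681724787897842329100801724100268686685205255456802156608822636159213080371378449851874236984067861374818401867476401521837090950684454785530928214956217335532946389076946284658606096952288653067557469772936180948252848301772134147149034545001474383541659920226976936419310757928214761390174612321086973554618095435767942933486023523231733509239710341026217251907361579657468295421054496871192629196853398547891121386692398880073162057461647722314799391493322282637198539632078362493513855898492802418242898029912429081692315604305210175649942544472272958253957120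
def letB : ℕ := nat_lit 1618559233760500763186643023462415422955015785684507427347623407683958367090643678046379625413665882503683599864475925565850414495414419363403639713279752720096281592227496504533006120049387446174780427553123072867450372236058587787581651028067451429266561731045141940892281342682112614349767410996774607910694378341568212749690744258706471161232489628383657192579026008521923522889465244981447740158894517669581054511358669351414833476254635036223401110354575575106644778431330106046557089548520730048557068881972078270422218589893959965017113512573389839508345299189256030775082346118118548979332218728237477295553989359543547397604434340887480122206664513529286360945405108298946432705749788022244803063992407826361660815567800240833843556451513557593933887202469298906235071438355990037335437470462552192252164209308837267805394927052406112584799428919681843522865830497082114363111537107494669620186813474017579275748459518364235876599039834290941506532364379993148142361018908221999083047336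29534433957035188260375337249854368095761648090448167432291315471852031122169235629657884349766898864426014979468334923465911827185155682599814426410147746824455761826578240757459954392985353272581788879416187859373966428298451207618406299499572808361726294890632503709634899778884447180313995175677269551013572726264029662451729762466773803224393914132897536820334574465757072804824823306381919368495972650947866407923646789861773808765408008142521244207440286034615091387233047916633139975028338739907727992957676639797718684237079494806469464115885814835129391735303113015728112570516663000905192360807185913203559277212456226068110066327261804719688200126403593571108374306874084491865372176080409695374080055602625632431503340416582095727179445670765968693124426612466918495402001662709384386506653355968969580522619936455935553498518577576448982562525658834345160027554998767916816191956467029799345739291040050062404160012502675909712681409268514967769205423746912807607121595043379963023596943259111255048945991079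96895903995711828769149512492528841125747080409336469641641508524172010484480536808070198447200524448121179257892673071109319567875046674788107124224536681865227462681599947431637428263852894638453246818364907333915725898612735340732392681210516462646602935868995001352876250004862049684021912377672672136263372495959037408340667951241782429158006750314461399459559163114069334457786445473992961718262812557016241917668099784376150849565060426471683430085434934133579251176100821093627532325666530936181844631491099859520761723699916738914567871735505779042767169640691513271200239656500200448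

end Cfsg.Agent.H857.T10Tab
end

-- part: H857/T10Act
section
/-!
# The action of the transvections on the exterior square (helper857)

`Rel5 X E` : `A₀` is generated by the list `bl E` of ten elements; `X i j` normalises `A₀`; the nontrivial elements
of `A₀` lie in the orbits of `beta (bl E) 1` and `beta (bl E) 26`; `ncard_orb`: if these are not conjugate, the
orbits have lengths 155 and 868.
-/

set_option autoImplicit false

open scoped Pointwise

namespace Cfsg.Agent.H857.T10Act

open Cfsg.Agent.J4.Beta Cfsg.Agent.H857.T10Rel Cfsg.Agent.H857.T10Tab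

/-- the pairs -/
def L10 : List (Fin 5 × Fin 5) :=
  [(0, 1), (0, 2), (0, 3), (1, 2), (1, 3), (2, 3), (0, 4), (1, 4), (2, 4), (3, 4)]

/-- the mask of a pair -/
def bit (k l : Fin 5) : ℕ :=
  2 ^ (L10.findIdx fun p => (p.1 == k && p.2 == l) || (p.1 == l && p.2 == k))

/-- image of the pair `k, l` under the transvection `i, j` -/
def img (i j k l : Fin 5) : ℕ :=
  if j = l ∧ i ≠ k then bit k l ^^^ bit k i else
    if j = k ∧ i ≠ l then bit k l ^^^ bit i l else bit k l

/-- the matrix of the transvection -/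
def AM (i j : Fin 5) : List ℕ := L10.map fun p => img i j p.1 p.2

section

variable {G : Type*} [Group G]

/-- the basis -/
def bl (E : Fin 5 → Fin 5 → G) : List G := L10.map fun p => E p.1 p.2

variable {X E : Fin 5 → Fin 5 → G} (h : Rel5 X E)

theorem L10_ne : ∀ p ∈ L10, p.1 ≠ p.2 := by decide

theorem mem_bl {q : G} : q ∈ bl E ↔ ∃ p ∈ L10, E p.1 p.2 = q := List.mem_map

include h

theorem bl_sq : ∀ q ∈ bl E, q * q = 1 := by
  intro q hq
  obtain ⟨p, hp, rfl⟩ := mem_bl.1 hq
  exact h.esq _ _ (L10_ne p hp)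

theorem bl_comm : ∀ a ∈ bl E, ∀ b ∈ bl E, a * b = b * a := by
  intro a ha b hb
  obtain ⟨p, hp, rfl⟩ := mem_bl.1 ha
  obtain ⟨q, hq, rfl⟩ := mem_bl.1 hb
  exact h.ecomm _ _ _ _ (L10_ne p hp) (L10_ne q hq)

theorem beta_bit (k l : Fin 5) (hkl : k ≠ l) : beta (bl E) (bit k l) = E k l := by
  have key : ∀ p ∈ L10, beta (bl E) (bit p.1 p.2) = E p.1 p.2 := by
    intro p hp
    simp only [L10, List.mem_cons, List.not_mem_nil, or_false] at hp
    rcases hp with rfl | rfl | rfl | rfl | rfl | rfl | rfl | rfl | rfl | rfl <;>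
    · simp [bl, L10, beta_cons, beta_nil, bit, List.findIdx_cons]
  have hs : bit k l = bit l k := by
    have : ∀ k l : Fin 5, bit k l = bit l k := by decide
    exact this k l
  have hm : ∀ k l : Fin 5, k ≠ l → (k, l) ∈ L10 ∨ (l, k) ∈ L10 := by decide
  rcases hm k l hkl with h1 | h1
  · exact key _ h1
  · rw [hs, h.symm k l hkl]
    exact key _ h1

theorem X_inv {i j : Fin 5} (hij : i ≠ j) : (X i j)⁻¹ = X i j :=
  inv_eq_of_mul_eq_one_right (h.sq i j hij)

theorem X_conj_E {i j k l : Fin 5} (hij : i ≠ j) (hkl : k ≠ l) :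
    X i j * E k l * (X i j)⁻¹ = beta (bl E) (img i j k l) := by
  rw [X_inv h hij]
  unfold img
  split_ifs with h1 h2
  · obtain ⟨rfl, hik⟩ := h1
    rw [beta_xor _ (bl_sq h) (bl_comm h), beta_bit h k j hkl, beta_bit h k i (Ne.symm hik)]
    exact h.act1 i j k hij hkl hik
  · obtain ⟨rfl, hil⟩ := h2
    rw [beta_xor _ (bl_sq h) (bl_comm h), beta_bit h j l hkl, beta_bit h i l hil, h.symm j l hkl,
      h.symm i l hil]
    exact h.act1 i j l hij (Ne.symm hkl) hil
  · rw [beta_bit h k l hkl]
    by_cases hjl : j = l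
    · subst hjl
      have hik : i = k := by
        by_contra hik
        exact h1 ⟨rfl, hik⟩
      subst hik
      exact h.act2 i j hij
    · by_cases hjk : j = k
      · subst hjk
        have hil : i = l := by
          by_contra hil
          exact h2 ⟨rfl, hil⟩
        subst hil
        rw [h.symm j i hkl]
        exact h.act2 i j hij
      · exact h.act3 i j k l hij hkl hjk hjl

/-- the action of the transvection `i, j` on the coordinates -/
theorem X_conj {i j : Fin 5} (hij : i ≠ j) (v : ℕ) :
    X i j * beta (bl E) v * (X i j)⁻¹ = beta (bl E) (lin (AM i j) v) := by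
  apply conj_beta (bl E) (bl_sq h) (bl_comm h)
  unfold bl AM
  rw [List.forall₂_map_left_iff, List.forall₂_map_right_iff, List.forall₂_same]
  intro p hp
  exact X_conj_E h hij (L10_ne p hp)

omit h in
/-- the subgroup generated by the basis -/
def A0 (E : Fin 5 → Fin 5 → G) : Subgroup G := Subgroup.closure {q | q ∈ bl E}

omit h in
theorem beta_mem_A0 (v : ℕ) : beta (bl E) v ∈ A0 E :=
  beta_mem _ _ (fun _ ha => Subgroup.subset_closure ha) v

theorem exists_beta_A0 {q : G} (hq : q ∈ A0 E) : ∃ v < 1024, q = beta (bl E) v := by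
  obtain ⟨v, hv, hq'⟩ := exists_beta (bl_sq h) (bl_comm h) hq
  have h10 : (bl E).length = 10 := rfl
  rw [h10] at hv
  exact ⟨v, hv, hq'⟩

theorem X_norm {i j : Fin 5} (hij : i ≠ j) : X i j ∈ Subgroup.normalizer (A0 E : Set G) := by
  rw [Subgroup.mem_normalizer_iff]
  have key : ∀ q ∈ A0 E, X i j * q * (X i j)⁻¹ ∈ A0 E := by
    intro q hq
    obtain ⟨v, -, rfl⟩ := exists_beta_A0 h hq
    rw [X_conj h hij]
    exact beta_mem_A0 _
  intro q
  constructor
  · exact key q
  · intro hq
    have h1 := key _ hq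
    have h2 : X i j * (X i j * q * (X i j)⁻¹) * (X i j)⁻¹ = (X i j * X i j) * q * (X i j * X i j)⁻¹ := by
      group
    rw [h2, h.sq i j hij] at h1
    simpa using h1

end

/-! ### the orbit tables -/

/-- bit field access -/
def tget (t i : ℕ) : ℕ := (t >>> (10 * i)) % 1024

/-- check of an orbit table of length `n` -/
def orbOk (n arr par lt : ℕ) : Bool :=
  (List.range n).all fun i => Nat.beq i 0 ||
    (Nat.blt (tget par i) i && Nat.blt (tget lt i) 25 && !(Nat.beq (tget lt i / 5) (tget lt i % 5)) &&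
      Nat.beq (tget arr i) (lin (AM (Fin.ofNat 5 (tget lt i / 5)) (Fin.ofNat 5 (tget lt i % 5)))
        (tget arr (tget par i))))

theorem orbA_ok : orbOk 155 arrA parA letA = true := by decide +kernel
theorem orbB_ok : orbOk 868 arrB parB letB = true := by decide +kernel
theorem baseA : tget arrA 0 = 1 := by decide +kernel
theorem baseB : tget arrB 0 = 26 := by decide +kernel

/-- the set of the masks of the table, as a number -/
def bset (n arr : ℕ) : ℕ := (List.range n).foldr (fun i acc => (1 <<< tget arr i) ||| acc) 0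

theorem bset_full : bset 155 arrA ||| bset 868 arrB = 2 ^ 1024 - 2 := by decide +kernel

theorem testBit_foldr (f : ℕ → ℕ) (l : List ℕ) (k : ℕ)
    (h : (l.foldr (fun i acc => (1 <<< f i) ||| acc) 0).testBit k = true) : ∃ i ∈ l, f i = k := by
  induction l with
  | nil => simp at h
  | cons a l ih =>
    rw [List.foldr_cons, Nat.testBit_or, Bool.or_eq_true] at h
    rcases h with h | h
    · refine ⟨a, List.mem_cons_self .., ?_⟩
      rw [Nat.testBit_shiftLeft, Bool.and_eq_true, decide_eq_true_eq,
        Nat.testBit_one_eq_true_iff_self_eq_zero] at h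
      omega
    · obtain ⟨i, hi, h⟩ := ih h
      exact ⟨i, List.mem_cons_of_mem _ hi, h⟩

theorem cover {v : ℕ} (hv : v < 1024) (h0 : v ≠ 0) :
    (∃ i < 155, tget arrA i = v) ∨ ∃ i < 868, tget arrB i = v := by
  have h1 : (2 ^ 1024 - 2 : ℕ).testBit v = true := by
    have h2 : ∀ v < 1024, v ≠ 0 → (2 ^ 1024 - 2 : ℕ).testBit v = true := by decide +kernel
    exact h2 v hv h0
  rw [← bset_full, Nat.testBit_or, Bool.or_eq_true] at h1
  rcases h1 with h1 | h1
  · obtain ⟨i, hi, h⟩ := testBit_foldr _ _ _ h1
    exact Or.inl ⟨i, List.mem_range.1 hi, h⟩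
  · obtain ⟨i, hi, h⟩ := testBit_foldr _ _ _ h1
    exact Or.inr ⟨i, List.mem_range.1 hi, h⟩

section

variable {G : Type*} [Group G] {X E : Fin 5 → Fin 5 → G} (h : Rel5 X E)

include h

theorem conj_arr {n arr par lt : ℕ} (hok : orbOk n arr par lt = true) (i : ℕ) (hi : i < n) :
    ∃ m ∈ Subgroup.normalizer (A0 E : Set G),
      m * beta (bl E) (tget arr 0) * m⁻¹ = beta (bl E) (tget arr i) := by
  induction i using Nat.strong_induction_on with
  | _ i ih =>
    have h1 := hok
    rw [orbOk, List.all_eq_true] at h1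
    have h2 := h1 i (List.mem_range.2 hi)
    rw [Bool.or_eq_true, Nat.beq_eq] at h2
    rcases h2 with rfl | h2
    · exact ⟨1, one_mem _, by simp⟩
    · simp only [Bool.and_eq_true, Nat.blt_eq, Nat.beq_eq, Bool.not_eq_true'] at h2
      obtain ⟨⟨⟨h3, h4⟩, h5⟩, h6⟩ := h2
      obtain ⟨m, hm, hmi⟩ := ih _ h3 (by omega)
      have h7 : (Fin.ofNat 5 (tget lt i / 5)) ≠ (Fin.ofNat 5 (tget lt i % 5)) := by
        intro h8
        have h9 := congrArg Fin.val h8
        simp only [Fin.val_ofNat] at h9
        have h10 : tget lt i / 5 = tget lt i % 5 := by omega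
        rw [h10, Nat.beq_refl] at h5
        exact absurd h5 (by decide)
      refine ⟨X _ _ * m, mul_mem (X_norm h h7) hm, ?_⟩
      rw [h6, ← X_conj h h7, ← hmi]
      group

/-- the nontrivial elements of `A₀` lie in two orbits -/
theorem orb_cases {q : G} (hq : q ∈ A0 E) (hq1 : q ≠ 1) :
    (q ∈ Orbits.orb (A0 E) (beta (bl E) 1) ∧ ∃ i < 155, beta (bl E) (tget arrA i) = q) ∨
    (q ∈ Orbits.orb (A0 E) (beta (bl E) 26) ∧ ∃ i < 868, beta (bl E) (tget arrB i) = q) := by
  obtain ⟨v, hv, rfl⟩ := exists_beta_A0 h hq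
  have h0 : v ≠ 0 := by
    rintro rfl
    exact hq1 (beta_zero _)
  rcases cover hv h0 with ⟨i, hi, rfl⟩ | ⟨i, hi, rfl⟩
  · left
    refine ⟨?_, i, hi, rfl⟩
    have h1 := conj_arr h orbA_ok i hi
    rw [baseA] at h1
    exact h1
  · right
    refine ⟨?_, i, hi, rfl⟩
    have h1 := conj_arr h orbB_ok i hi
    rw [baseB] at h1
    exact h1

/-- elements of the orbit of an element of `A₀` -/
theorem mem_A0_of_orb {q a : G} (ha : a ∈ A0 E) (hq : q ∈ Orbits.orb (A0 E) a) : q ∈ A0 E := by
  obtain ⟨n, hn, rfl⟩ := hq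
  exact ((Subgroup.mem_normalizer_iff.1 hn) a).1 ha

omit h in
theorem ne_one_of_orb {q a : G} (ha : a ≠ 1) (hq : q ∈ Orbits.orb (A0 E) a) : q ≠ 1 := by
  obtain ⟨n, hn, rfl⟩ := hq
  intro h1
  apply ha
  calc a = n⁻¹ * (n * a * n⁻¹) * n := by group
    _ = 1 := by rw [h1]; group

/-- **the lengths of the orbits** -/
theorem ncard_orb [Finite G] (hcard : Nat.card (A0 E) = 1024)
    (hab : ¬ IsConj (beta (bl E) 1) (beta (bl E) 26)) (ha1 : beta (bl E) 1 ≠ 1)
    (hb1 : beta (bl E) 26 ≠ 1) :
    (Orbits.orb (A0 E) (beta (bl E) 1)).ncard = 155 ∧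
      (Orbits.orb (A0 E) (beta (bl E) 26)).ncard = 868 := by
  classical
  set a := beta (bl E) 1 with ha
  set b := beta (bl E) 26 with hb
  have hdisj : ∀ q, q ∈ Orbits.orb (A0 E) a → q ∉ Orbits.orb (A0 E) b := by
    rintro q ⟨n, -, hn⟩ ⟨m, -, hm⟩
    exact hab ((isConj_iff.2 ⟨n, hn⟩).trans (isConj_iff.2 ⟨m, hm⟩).symm)
  have hA : (Orbits.orb (A0 E) a).ncard ≤ 155 := by
    have h1 : Orbits.orb (A0 E) a ⊆
        ((Finset.range 155).image fun i => beta (bl E) (tget arrA i) : Finset G) := by
      intro q hq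
      rcases orb_cases h (mem_A0_of_orb h (beta_mem_A0 1) hq) (ne_one_of_orb ha1 hq) with
        ⟨-, i, hi, hq'⟩ | ⟨hq', -⟩
      · rw [Finset.mem_coe, Finset.mem_image]
        exact ⟨i, Finset.mem_range.2 hi, hq'⟩
      · exact absurd hq' (hdisj q hq)
    have h2 := Set.ncard_le_ncard h1 (Finset.finite_toSet _)
    rw [Set.ncard_coe_finset] at h2
    exact h2.trans (Finset.card_image_le.trans (by rw [Finset.card_range]))
  have hB : (Orbits.orb (A0 E) b).ncard ≤ 868 := by
    have h1 : Orbits.orb (A0 E) b ⊆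
        ((Finset.range 868).image fun i => beta (bl E) (tget arrB i) : Finset G) := by
      intro q hq
      rcases orb_cases h (mem_A0_of_orb h (beta_mem_A0 26) hq) (ne_one_of_orb hb1 hq) with
        ⟨hq', -⟩ | ⟨-, i, hi, hq'⟩
      · exact absurd hq (hdisj q hq')
      · rw [Finset.mem_coe, Finset.mem_image]
        exact ⟨i, Finset.mem_range.2 hi, hq'⟩
    have h2 := Set.ncard_le_ncard h1 (Finset.finite_toSet _)
    rw [Set.ncard_coe_finset] at h2
    exact h2.trans (Finset.card_image_le.trans (by rw [Finset.card_range]))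
  have hAB : ((A0 E : Subgroup G) : Set G).ncard ≤
      1 + ((Orbits.orb (A0 E) a).ncard + (Orbits.orb (A0 E) b).ncard) := by
    have h1 : ((A0 E : Subgroup G) : Set G) ⊆
        {1} ∪ (Orbits.orb (A0 E) a ∪ Orbits.orb (A0 E) b) := by
      intro q hq
      by_cases hq1 : q = 1
      · exact Or.inl hq1
      · rcases orb_cases h hq hq1 with ⟨h1, -⟩ | ⟨h1, -⟩
        · exact Or.inr (Or.inl h1)
        · exact Or.inr (Or.inr h1)
    refine (Set.ncard_le_ncard h1 (Set.toFinite _)).trans ((Set.ncard_union_le _ _).trans ?_)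
    rw [Set.ncard_singleton]
    exact Nat.add_le_add_left (Set.ncard_union_le _ _) 1
  have h1 : ((A0 E : Subgroup G) : Set G).ncard = 1024 := hcard
  omega

/-- **irreducibility** -/
theorem irred [Finite G] (hcard : Nat.card (A0 E) = 1024)
    (hab : ¬ IsConj (beta (bl E) 1) (beta (bl E) 26)) (ha1 : beta (bl E) 1 ≠ 1)
    (hb1 : beta (bl E) 26 ≠ 1) {W : Subgroup G} (hW : W ≤ A0 E)
    (hN : Subgroup.normalizer (A0 E : Set G) ≤ Subgroup.normalizer (W : Set G)) :
    W = ⊥ ∨ W = A0 E := by
  classical
  obtain ⟨hA, hB⟩ := ncard_orb h hcard hab ha1 hb1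
  set a := beta (bl E) 1 with ha
  set b := beta (bl E) 26 with hb
  have hdisj : Disjoint (Orbits.orb (A0 E) a) (Orbits.orb (A0 E) b) := by
    rw [Set.disjoint_left]
    rintro q ⟨n, -, hn⟩ ⟨m, -, hm⟩
    exact hab ((isConj_iff.2 ⟨n, hn⟩).trans (isConj_iff.2 ⟨m, hm⟩).symm)
  -- `W` contains the orbits it meets
  have key : ∀ c q, q ∈ W → q ∈ Orbits.orb (A0 E) c → Orbits.orb (A0 E) c ⊆ W := by
    rintro c q hq ⟨n, hn, rfl⟩ _ ⟨m, hm, rfl⟩
    have h1 : c ∈ W := by
      have h2 := (Subgroup.mem_normalizer_iff.1 (hN (inv_mem hn)) (n * c * n⁻¹)).1 hq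
      have h3 : n⁻¹ * (n * c * n⁻¹) * n⁻¹⁻¹ = c := by group
      rwa [h3] at h2
    exact (Subgroup.mem_normalizer_iff.1 (hN hm) c).1 h1
  have hdvd : Nat.card W ∣ 2 ^ 10 := by
    have := Subgroup.card_dvd_of_le hW
    rw [hcard] at this
    exact this
  obtain ⟨k, hk10, hk⟩ := (Nat.dvd_prime_pow Nat.prime_two).1 hdvd
  have hWn : (W : Set G).ncard = 2 ^ k := hk
  have h1W : (1 : G) ∈ (W : Set G) := W.one_mem
  have ha' : (1 : G) ∉ Orbits.orb (A0 E) a := fun h1 => ne_one_of_orb ha1 h1 rfl
  have hb' : (1 : G) ∉ Orbits.orb (A0 E) b := fun h1 => ne_one_of_orb hb1 h1 rfl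
  by_cases hWa : ∃ q ∈ W, q ∈ Orbits.orb (A0 E) a
  · obtain ⟨q, hq, hqa⟩ := hWa
    have hsa := key a q hq hqa
    by_cases hWb : ∃ q ∈ W, q ∈ Orbits.orb (A0 E) b
    · right
      obtain ⟨q', hq', hqb⟩ := hWb
      have hsb := key b q' hq' hqb
      apply le_antisymm hW
      intro x hx
      by_cases hx1 : x = 1
      · rw [hx1]; exact W.one_mem
      · rcases orb_cases h hx hx1 with ⟨h1, -⟩ | ⟨h1, -⟩
        · exact hsa h1
        · exact hsb h1
    · exfalso
      push Not at hWb
      have e : (W : Set G) = insert 1 (Orbits.orb (A0 E) a) := by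
        ext x
        rw [Set.mem_insert_iff]
        constructor
        · intro hx
          by_cases hx1 : x = 1
          · exact Or.inl hx1
          · rcases orb_cases h (hW hx) hx1 with ⟨h1, -⟩ | ⟨h1, -⟩
            · exact Or.inr h1
            · exact absurd h1 (hWb x hx)
        · rintro (rfl | hx)
          · exact h1W
          · exact hsa hx
      rw [e, Set.ncard_insert_of_notMem ha' (Set.toFinite _), hA] at hWn
      interval_cases k <;> omega
  · push Not at hWa
    by_cases hWb : ∃ q ∈ W, q ∈ Orbits.orb (A0 E) b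
    · exfalso
      obtain ⟨q', hq', hqb⟩ := hWb
      have hsb := key b q' hq' hqb
      have e : (W : Set G) = insert 1 (Orbits.orb (A0 E) b) := by
        ext x
        rw [Set.mem_insert_iff]
        constructor
        · intro hx
          by_cases hx1 : x = 1
          · exact Or.inl hx1
          · rcases orb_cases h (hW hx) hx1 with ⟨h1, -⟩ | ⟨h1, -⟩
            · exact absurd h1 (hWa x hx)
            · exact Or.inr h1
        · rintro (rfl | hx)
          · exact h1W
          · exact hsb hx
      rw [e, Set.ncard_insert_of_notMem hb' (Set.toFinite _), hB] at hWn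
      interval_cases k <;> omega
    · left
      push Not at hWb
      rw [eq_bot_iff]
      intro x hx
      rw [Subgroup.mem_bot]
      by_contra hx1
      rcases orb_cases h (hW hx) hx1 with ⟨h1, -⟩ | ⟨h1, -⟩
      · exact hWa x hx h1
      · exact hWb x hx h1

end

end Cfsg.Agent.H857.T10Act
end

-- part: H857/Normal
section
/-!
# The subgroup `A(O) = W(O) φ(fixOct O)` and the elementary abelian subgroups of order `2^10` (helper857)

* `exists_conj_le` : every 2-subgroup of `G` is conjugate to a subgroup of `N_G(E)`;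
* `exists_eq` : if `V` is elementary abelian of order `2^10` and `V` is not contained in a conjugate of `E` then
  `V` is conjugate to `A(O)`, for every octad `O`;
* `AG_cent` : `C_G(A(O)) = A(O)`.
-/

set_option autoImplicit false

open scoped Pointwise

namespace Cfsg.Agent.H857.Normal

open Cfsg Cfsg.Agent.SporadicA.GolayBase Cfsg.Agent.SporadicA.OctadFix
open Cfsg.Agent.J4Type Cfsg.Agent.J4Type.CocodeMask Cfsg.Agent.J4Type.TauM24
open Cfsg.Agent.J4Type.TauMask Cfsg.Agent.J4Type.FrameDefs
open Cfsg.Agent.H857.Fix Cfsg.Agent.H857.WGrp Cfsg.Agent.H857.Card Cfsg.Agent.H857.Classify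
open Cfsg.Agent.H857.Orbits (mem_smul_iff)

variable {G : Type*} [Group G]

/-! ### Sylow -/

/-- every 2-subgroup is conjugate to a subgroup of `N_G(E)` -/
theorem exists_conj_le [Finite G] (H : Hex G) {V : Subgroup G} (hV : IsPGroup 2 V) :
    ∃ g : G, MulAut.conj g • V ≤ Subgroup.normalizer (H.E hex0 : Set G) := by
  have : Fact (Nat.Prime 2) := ⟨Nat.prime_two⟩
  obtain ⟨S, hS⟩ := hV.exists_le_sylow
  obtain ⟨V0, hV0, hc, hV0S⟩ := Cfsg.Agent.H856.TwoEleven.exists_le_sylow H S
  obtain ⟨g, hg⟩ := Cfsg.Agent.H856.TwoEleven.exists_conj_E H hV0 hc.ge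
  refine ⟨g, ?_⟩
  intro v hv
  rw [mem_smul_iff] at hv
  have hs : g⁻¹ * v * g ∈ (S : Subgroup G) := hS hv
  rw [← hg, Orbits.mem_normalizer_smul]
  set s := g⁻¹ * v * g with hsdef
  have h1 : MulAut.conj s • V0 = V0 := by
    apply Cfsg.Agent.H856.TwoEleven.eq_of_le_sylow H S
      (Cfsg.Agent.H856.TwoEleven.isElem2_smul hV0 s)
      (by rw [Cfsg.Agent.H856.TwoEleven.card_smul, hc]) _ hV0 hc.ge hV0S
    intro x hx
    rw [mem_smul_iff] at hx
    have h2 := hV0S hx
    have h3 : s * (s⁻¹ * x * s) * s⁻¹ ∈ (S : Subgroup G) :=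
      (S : Subgroup G).mul_mem ((S : Subgroup G).mul_mem hs h2) ((S : Subgroup G).inv_mem hs)
    have h4 : s * (s⁻¹ * x * s) * s⁻¹ = x := by group
    rwa [h4] at h3
  rw [Subgroup.mem_normalizer_iff]
  intro h
  have h5 : s * h * s⁻¹ ∈ MulAut.conj s • V0 ↔ h ∈ V0 := Orbits.conj_mem_smul
  rw [h1] at h5
  exact h5.symm

/-! ### The subgroup `A(O)` -/

section

variable (C : J4Type.Compl G)

theorem φ_conj_WG (g : M24) {O : Finset GolayPt} {w : G} (hw : w ∈ WG C.toFrame O) :
    C.φ g * w * (C.φ g)⁻¹ ∈ WG C.toFrame ((g : Equiv.Perm GolayPt) • O) := by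
  obtain ⟨S, hS, hSe, rfl⟩ := hw
  exact ⟨(g : Equiv.Perm GolayPt) • S, Finset.smul_finset_subset_smul_finset hS,
    by rwa [Finset.card_smul_finset], (TauMain.φ_ε C g hSe).symm⟩

/-- an element fixing `O` pointwise centralises `W(O)` -/
theorem φ_comm_WG {O : Finset GolayPt} {b : M24} (hb : (b : Equiv.Perm GolayPt) ∈ fixOct O) {w : G}
    (hw : w ∈ WG C.toFrame O) : C.φ b * w = w * C.φ b := by
  obtain ⟨S, hS, hSe, rfl⟩ := hw
  have h := TauMain.φ_ε C b hSe
  have h1 : (b : Equiv.Perm GolayPt) • S = S := by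
    apply smul_eq_of_mapsTo
    intro x hx
    rw [(mem_fixOct.1 hb).2 x (hS hx)]
    exact hx
  rw [h1] at h
  exact mul_inv_eq_iff_eq_mul.1 h

/-- the subgroup `A(O)` -/
def AG (O : Finset GolayPt) : Subgroup G where
  carrier := {a | ∃ w ∈ WG C.toFrame O, ∃ b : M24, (b : Equiv.Perm GolayPt) ∈ fixOct O ∧
    w * C.φ b = a}
  one_mem' := ⟨1, one_mem _, 1, (fixOct O).one_mem, by rw [map_one, mul_one]⟩
  mul_mem' := by
    rintro _ _ ⟨w, hw, b, hb, rfl⟩ ⟨w', hw', b', hb', rfl⟩
    refine ⟨w * w', mul_mem hw hw', b * b', (fixOct O).mul_mem hb hb', ?_⟩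
    rw [map_mul]
    calc w * w' * (C.φ b * C.φ b') = w * (w' * C.φ b) * C.φ b' := by group
      _ = w * (C.φ b * w') * C.φ b' := by rw [φ_comm_WG C hb hw']
      _ = _ := by group
  inv_mem' := by
    rintro _ ⟨w, hw, b, hb, rfl⟩
    refine ⟨w⁻¹, inv_mem hw, b⁻¹, (fixOct O).inv_mem hb, ?_⟩
    have h := φ_comm_WG C hb hw
    rw [mul_inv_rev, map_inv, ← mul_inv_rev, ← mul_inv_rev, h]

variable {C}

theorem mem_AG {O : Finset GolayPt} {a : G} : a ∈ AG C O ↔ ∃ w ∈ WG C.toFrame O, ∃ b : M24,
    (b : Equiv.Perm GolayPt) ∈ fixOct O ∧ w * C.φ b = a := Iff.rfl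

theorem WG_le_AG (O : Finset GolayPt) : WG C.toFrame O ≤ AG C O := fun w hw =>
  ⟨w, hw, 1, (fixOct O).one_mem, by rw [map_one, mul_one]⟩

theorem φ_mem_AG {O : Finset GolayPt} {b : M24} (hb : (b : Equiv.Perm GolayPt) ∈ fixOct O) :
    C.φ b ∈ AG C O := ⟨1, one_mem _, b, hb, one_mul _⟩

theorem WG_mem_norm {O : Finset GolayPt} {w : G} (hw : w ∈ WG C.toFrame O) :
    w ∈ Subgroup.normalizer (C.E hex0 : Set G) := E_le C.toFrame (WG_le O hw)

theorem AG_le_norm (O : Finset GolayPt) : AG C O ≤ Subgroup.normalizer (C.E hex0 : Set G) := by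
  rintro _ ⟨w, hw, b, hb, rfl⟩
  exact mul_mem (WG_mem_norm hw) (C.φ_mem b)

/-- the permutation induced by `w φ(b)` -/
theorem π_mul {w : G} (hw : w ∈ C.E hex0) (b : M24)
    (h : w * C.φ b ∈ Subgroup.normalizer (C.E hex0 : Set G)) : C.π ⟨w * C.φ b, h⟩ = b := by
  have h1 : (⟨w * C.φ b, h⟩ : Subgroup.normalizer (C.E hex0 : Set G)) =
      ⟨w, E_le C.toFrame hw⟩ * ⟨C.φ b, C.φ_mem b⟩ := rfl
  rw [h1, map_mul, C.π_φ, (C.π_ker ⟨w, E_le C.toFrame hw⟩).2 hw, one_mul]

/-- `n (φ (π n))⁻¹ ∈ E` -/
theorem div_mem {n : G} (hn : n ∈ Subgroup.normalizer (C.E hex0 : Set G)) :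
    n * (C.φ (C.π ⟨n, hn⟩))⁻¹ ∈ C.E hex0 := by
  have h4 : C.π (⟨n, hn⟩ * ⟨C.φ (C.π ⟨n, hn⟩), C.φ_mem _⟩⁻¹) = 1 := by
    rw [map_mul, map_inv, C.π_φ, mul_inv_cancel]
  exact (C.π_ker _).1 h4

theorem AG_inf (O : Finset GolayPt) : AG C O ⊓ C.E hex0 = WG C.toFrame O := by
  apply le_antisymm
  · rintro _ ⟨⟨w, hw, b, hb, rfl⟩, hE⟩
    have h1 := π_mul (WG_le O hw) b (AG_le_norm O ⟨w, hw, b, hb, rfl⟩)
    rw [(C.π_ker ⟨w * C.φ b, _⟩).2 hE] at h1
    rw [← h1, map_one, mul_one]
    exact hw
  · exact le_inf (WG_le_AG O) (WG_le O)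

theorem φ_sq {O : Finset GolayPt} (hO : O ∈ octads) {b : M24}
    (hb : (b : Equiv.Perm GolayPt) ∈ fixOct O) : C.φ b * C.φ b = 1 := by
  rw [← map_mul, show b * b = 1 from Subtype.ext (fixOct_sq hO hb), map_one]

theorem AG_sq {O : Finset GolayPt} (hO : O ∈ octads) : ∀ a ∈ AG C O, a * a = 1 := by
  rintro _ ⟨w, hw, b, hb, rfl⟩
  calc w * C.φ b * (w * C.φ b) = w * (C.φ b * w) * C.φ b := by group
    _ = w * (w * C.φ b) * C.φ b := by rw [φ_comm_WG C hb hw]
    _ = (w * w) * (C.φ b * C.φ b) := by group
    _ = 1 := by rw [E_sq (WG_le O hw), φ_sq hO hb, mul_one]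

/-- a subgroup with the same invariants as `A(O)`, containing the `φ(b)` -/
theorem eq_AG {O : Finset GolayPt} {V : Subgroup G}
    (hVN : V ≤ Subgroup.normalizer (C.E hex0 : Set G)) (him : im C.toFrame V ≤ fixOct O)
    (hW : V ⊓ C.E hex0 = WG C.toFrame O)
    (hφ : ∀ b : M24, (b : Equiv.Perm GolayPt) ∈ fixOct O → C.φ b ∈ V) : V = AG C O := by
  apply le_antisymm
  · intro v hv
    have hn := hVN hv
    have hb : (C.π ⟨v, hn⟩ : Equiv.Perm GolayPt) ∈ fixOct O :=
      him ((mem_im C.toFrame).2 ⟨⟨v, hn⟩, hv, rfl⟩)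
    refine ⟨v * (C.φ (C.π ⟨v, hn⟩))⁻¹, ?_, C.π ⟨v, hn⟩, hb, by group⟩
    rw [← hW]
    exact ⟨V.mul_mem hv (V.inv_mem (hφ _ hb)), div_mem hn⟩
  · rintro _ ⟨w, hw, b, hb, rfl⟩
    rw [← hW] at hw
    exact V.mul_mem hw.1 (hφ b hb)

/-- the alternative for the elements of `V` over `b` -/
theorem alt {O : Finset GolayPt} (hO : O ∈ octads) {V : Subgroup G} (hV : ∀ a ∈ V, a * a = 1)
    (him : fixOct O ≤ im C.toFrame V)
    (hW : V ⊓ C.E hex0 = WG C.toFrame O) {p : GolayPt} (hp : p ∉ O) {b : M24}
    (hb : (b : Equiv.Perm GolayPt) ∈ fixOct O) (hb1 : b ≠ 1) :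
    C.φ b ∈ V ∨ C.ε {p, (b : Equiv.Perm GolayPt) p} * C.φ b ∈ V := by
  have hWV : WG C.toFrame O ≤ V := by rw [← hW]; exact inf_le_left
  obtain ⟨n, hnV, hn⟩ := (mem_im C.toFrame).1 (him hb)
  have hn' : C.π n = b := Subtype.ext hn
  have he : (n : G) * (C.φ b)⁻¹ ∈ C.E hex0 := by
    have := div_mem (C := C) n.2
    rwa [show C.π ⟨(n : G), n.2⟩ = b from hn'] at this
  set e := (n : G) * (C.φ b)⁻¹ with hedef
  have hne : (n : G) = e * C.φ b := by rw [hedef]; group
  have hee := E_sq he
  have hbb := φ_sq (C := C) hO hb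
  have hcomm : C.φ b * e = e * C.φ b := by
    have h1 := hV _ hnV
    rw [hne] at h1
    calc C.φ b * e = (e * e) * (C.φ b * e) * (C.φ b * C.φ b) := by rw [hee, hbb, one_mul, mul_one]
      _ = e * (e * C.φ b * (e * C.φ b)) * C.φ b := by group
      _ = e * C.φ b := by rw [h1, mul_one]
  have hpb : p ≠ (b : Equiv.Perm GolayPt) p := by
    intro h
    apply hb1
    exact Subtype.ext (OctadFixTrans.eq_one_of_fix hO hb hp h.symm)
  have hπ : C.π ⟨C.φ b, C.φ_mem b⟩ = b := C.π_φ b
  have hc := cases_of_comm (F := C.toFrame) hO (n := ⟨C.φ b, C.φ_mem b⟩) (by rw [hπ]; exact hb)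
    (by rw [hπ]; exact hb1) hp he hcomm
  rw [hπ] at hc
  rcases hc with h | h
  · left
    have h1 := V.mul_mem (V.inv_mem (hWV h)) hnV
    rwa [hne, inv_mul_cancel_left] at h1
  · right
    have h1 := V.mul_mem (V.inv_mem (hWV h)) hnV
    have hε := ε_sq C.toFrame (even_pair' hpb)
    have h2 : (e * C.ε {p, (b : Equiv.Perm GolayPt) p})⁻¹ * (n : G) =
        C.ε {p, (b : Equiv.Perm GolayPt) p} * C.φ b := by
      rw [hne, mul_inv_rev, mul_assoc, inv_mul_cancel_left]
      congr 1
      exact inv_eq_of_mul_eq_one_right hε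
    rwa [h2] at h1

/-- **normal form**: `V` is `A(O)` or its conjugate by a duad meeting `O` in one point -/
theorem exists_conj_AG {O : Finset GolayPt} (hO : O ∈ octads) {V : Subgroup G}
    (hV : ∀ a ∈ V, a * a = 1)
    (hVN : V ≤ Subgroup.normalizer (C.E hex0 : Set G)) (him : im C.toFrame V = fixOct O)
    (hW : V ⊓ C.E hex0 = WG C.toFrame O) : ∃ g : G, MulAut.conj g • V = AG C O := by
  by_cases hall : ∀ b : M24, (b : Equiv.Perm GolayPt) ∈ fixOct O → C.φ b ∈ V
  · exact ⟨1, by rw [map_one, one_smul]; exact eq_AG hVN him.le hW hall⟩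
  · push Not at hall
    obtain ⟨b0, hb0, hb0V⟩ := hall
    have hb01 : b0 ≠ 1 := by
      rintro rfl
      exact hb0V (by rw [map_one]; exact V.one_mem)
    obtain ⟨p, hp⟩ := FusionComm.exists_out hO
    have hne : O.Nonempty := by
      rw [← Finset.card_pos, octad_card hO]; norm_num
    obtain ⟨o, ho⟩ := hne
    have hpo : p ≠ o := fun h => hp (h ▸ ho)
    have hout : ∀ w : M24, (w : Equiv.Perm GolayPt) ∈ fixOct O → (w : Equiv.Perm GolayPt) p ∉ O := by
      intro w hw h
      have h1 := (mem_fixOct.1 hw).2 _ h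
      exact hp ((w : Equiv.Perm GolayPt).injective h1 ▸ h)
    have hmv : ∀ w : M24, (w : Equiv.Perm GolayPt) ∈ fixOct O → w ≠ 1 →
        p ≠ (w : Equiv.Perm GolayPt) p := by
      intro w hw hw1 h
      exact hw1 (Subtype.ext (OctadFixTrans.eq_one_of_fix hO hw hp h.symm))
    have hQ0 := (alt hO hV him.ge hW hp hb0 hb01).resolve_left hb0V
    have hVcomm := comm_of_sq hV
    have hQ : ∀ b : M24, (b : Equiv.Perm GolayPt) ∈ fixOct O → b ≠ 1 →
        C.ε {p, (b : Equiv.Perm GolayPt) p} * C.φ b ∈ V := by
      intro b hb hb1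
      by_contra hno
      have hPb := (alt hO hV him.ge hW hp hb hb1).resolve_right hno
      have hbb0 : b ≠ b0 := fun h => hb0V (h ▸ hPb)
      have hprod : ((b * b0 : M24) : Equiv.Perm GolayPt) ∈ fixOct O := (fixOct O).mul_mem hb hb0
      have hprod1 : b * b0 ≠ 1 := by
        intro h
        have h1 : b0 * b0 = 1 := Subtype.ext (fixOct_sq hO hb0)
        exact hbb0 (by rw [eq_inv_of_mul_eq_one_left h, inv_eq_of_mul_eq_one_right h1])
      rcases alt hO hV him.ge hW hp hprod hprod1 with h | h
      · apply hb0V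
        have h1 := V.mul_mem (V.inv_mem hPb) h
        rwa [map_mul, inv_mul_cancel_left] at h1
      · -- `ε{p, b b0 p} φ b φ b0 ∈ V` and `φ b ε{p, b0 p} φ b0 ∈ V`
        have h1 := V.mul_mem hPb hQ0
        have hp0 := hmv b0 hb0 hb01
        have h2 := TauMain.φ_ε C b (even_pair' hp0)
        have h3 : (b : Equiv.Perm GolayPt) • ({p, (b0 : Equiv.Perm GolayPt) p} : Finset GolayPt) =
            {(b : Equiv.Perm GolayPt) p, ((b * b0 : M24) : Equiv.Perm GolayPt) p} := by
          rw [Finset.smul_finset_insert, Finset.smul_finset_singleton]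
          rfl
        rw [h3] at h2
        have hne1 : (b : Equiv.Perm GolayPt) p ≠ ((b * b0 : M24) : Equiv.Perm GolayPt) p := by
          intro h
          exact hp0 ((b : Equiv.Perm GolayPt).injective h)
        have h4 : C.φ b * (C.ε {p, (b0 : Equiv.Perm GolayPt) p} * C.φ b0) =
            C.ε {(b : Equiv.Perm GolayPt) p, ((b * b0 : M24) : Equiv.Perm GolayPt) p} *
              C.φ (b * b0) := by
          rw [← h2, map_mul]
          group
        rw [h4] at h1
        have h5 := V.mul_mem h (V.inv_mem h1)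
        have hpm := hmv _ hprod hprod1
        have hε := ε_sq C.toFrame (even_pair' hne1)
        have h6 : C.ε {p, ((b * b0 : M24) : Equiv.Perm GolayPt) p} * C.φ (b * b0) *
            (C.ε {(b : Equiv.Perm GolayPt) p, ((b * b0 : M24) : Equiv.Perm GolayPt) p} *
              C.φ (b * b0))⁻¹ = C.ε {(b : Equiv.Perm GolayPt) p, p} := by
          rw [mul_inv_rev, ← mul_assoc, mul_inv_cancel_right, inv_eq_of_mul_eq_one_right hε,
            Finset.pair_comm p, Finset.pair_comm ((b : Equiv.Perm GolayPt) p)]
          rw [ε_pair_mul (F := C.toFrame) hpm.symm hne1.symm (hmv b hb hb1), Finset.pair_comm]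
        rw [h6] at h5
        have h7 : C.ε {(b : Equiv.Perm GolayPt) p, p} ∈ V ⊓ C.E hex0 :=
          ⟨h5, C.ε_mem _ (even_pair' (hmv b hb hb1).symm)⟩
        rw [hW] at h7
        exact duad_not_mem_WG hO (hout b hb) hp (hmv b hb hb1).symm h7
    -- conjugate by `ε {p, o}`
    set g := C.ε {p, o} with hg
    have hgE : g ∈ C.E hex0 := C.ε_mem _ (even_pair' hpo)
    have hgg : g * g = 1 := E_sq hgE
    have hginv : g⁻¹ = g := inv_eq_of_mul_eq_one_right hgg
    have hEcomm : ∀ a ∈ C.E hex0, g * a * g⁻¹ = a := by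
      intro a ha
      rw [(C.E_elem hex0 HexMax.hex0_isHex).2 g hgE a ha, mul_inv_cancel_right]
    refine ⟨g, eq_AG ?_ ?_ ?_ ?_⟩
    · intro v hv
      rw [mem_smul_iff] at hv
      have h1 := hVN hv
      have h2 : v = g * (g⁻¹ * v * g) * g⁻¹ := by group
      rw [h2]
      exact mul_mem (mul_mem (E_le C.toFrame hgE) h1) (inv_mem (E_le C.toFrame hgE))
    · intro x hx
      obtain ⟨n, hn, rfl⟩ := (mem_im C.toFrame).1 hx
      rw [mem_smul_iff] at hn
      rw [← him]
      have hgN : g ∈ Subgroup.normalizer (C.E hex0 : Set G) := E_le C.toFrame hgE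
      refine (mem_im C.toFrame).2 ⟨⟨g, hgN⟩⁻¹ * n * ⟨g, hgN⟩, hn, ?_⟩
      have h1 : C.π ⟨g, hgN⟩ = 1 := (C.π_ker ⟨g, hgN⟩).2 hgE
      show ((C.π (⟨g, hgN⟩⁻¹ * n * ⟨g, hgN⟩) : M24) : Equiv.Perm GolayPt) = _
      rw [map_mul, map_mul, map_inv, h1]
      simp
    · ext a
      rw [← hW, Subgroup.mem_inf, Subgroup.mem_inf, mem_smul_iff]
      constructor
      · rintro ⟨h1, h2⟩
        have h3 := hEcomm a h2
        rw [hginv] at h1 h3
        rw [h3] at h1
        exact ⟨h1, h2⟩
      · rintro ⟨h1, h2⟩
        have h3 := hEcomm a h2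
        rw [hginv] at h3
        rw [hginv, h3]
        exact ⟨h1, h2⟩
    · intro b hb
      rw [mem_smul_iff]
      by_cases hb1 : b = 1
      · rw [hb1, map_one, mul_one, inv_mul_cancel]
        exact V.one_mem
      · have h1 := hQ b hb hb1
        have hbo : (b : Equiv.Perm GolayPt) o = o := (mem_fixOct.1 hb).2 o ho
        have h2 := TauMain.φ_ε C b (even_pair' hpo)
        have h3 : (b : Equiv.Perm GolayPt) • ({p, o} : Finset GolayPt) =
            {(b : Equiv.Perm GolayPt) p, o} := by
          rw [Finset.smul_finset_insert, Finset.smul_finset_singleton]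
          show ({(b : Equiv.Perm GolayPt) p, (b : Equiv.Perm GolayPt) o} : Finset GolayPt) = _
          rw [hbo]
        rw [h3] at h2
        have hbpo : (b : Equiv.Perm GolayPt) p ≠ o := fun h => hout b hb (h ▸ ho)
        have h4 : g * C.φ b * g = C.ε {p, (b : Equiv.Perm GolayPt) p} * C.φ b := by
          have h5 : C.φ b * g = C.ε {(b : Equiv.Perm GolayPt) p, o} * C.φ b :=
            mul_inv_eq_iff_eq_mul.1 h2
          rw [mul_assoc, h5, ← mul_assoc, hg, Finset.pair_comm p o,
            Finset.pair_comm ((b : Equiv.Perm GolayPt) p) o,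
            ε_pair_mul (F := C.toFrame) (Ne.symm hpo) (Ne.symm hbpo) (hmv b hb hb1)]
        rw [hginv, h4]
        exact h1

/-- the conjugates of `A(O)` under `φ(M24)` -/
theorem smul_AG (k : M24) (O : Finset GolayPt) :
    MulAut.conj (C.φ k) • AG C O = AG C ((k : Equiv.Perm GolayPt) • O) := by
  have key : ∀ (k : M24) (O : Finset GolayPt), MulAut.conj (C.φ k) • AG C O ≤
      AG C ((k : Equiv.Perm GolayPt) • O) := by
    intro k O x hx
    rw [mem_smul_iff] at hx
    obtain ⟨w, hw, b, hb, h⟩ := hx
    refine ⟨C.φ k * w * (C.φ k)⁻¹, φ_conj_WG C k hw, k * b * k⁻¹, ?_, ?_⟩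
    · exact (conj_mem_fixOct (o := O) k.2).2 hb
    · have h1 : x = C.φ k * ((C.φ k)⁻¹ * x * C.φ k) * (C.φ k)⁻¹ := by group
      rw [h1, ← h, map_mul, map_mul, map_inv]
      group
  apply le_antisymm (key k O)
  intro x hx
  rw [mem_smul_iff]
  have h1 := key k⁻¹ ((k : Equiv.Perm GolayPt) • O)
  rw [Subgroup.coe_inv, inv_smul_smul] at h1
  apply h1
  rw [mem_smul_iff, map_inv, inv_inv]
  have h2 : C.φ k * ((C.φ k)⁻¹ * x * C.φ k) * (C.φ k)⁻¹ = x := by group
  rw [h2]
  exact hx

/-! ### Main results -/

/-- every elementary abelian subgroup of order `2^10` not contained in a conjugate of `E` is conjugate to `A(O)` -/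
theorem exists_eq [Finite G] (C : J4Type.Compl G) {V : Subgroup G} (hV : IsElem2 V)
    (hcard : Nat.card V = 2 ^ 10) (hVE : ∀ g : G, ¬ MulAut.conj g • V ≤ C.E hex0)
    {O : Finset GolayPt} (hO : O ∈ octads) : ∃ g : G, MulAut.conj g • V = AG C O := by
  obtain ⟨g, hg⟩ := exists_conj_le C.toHex (Cfsg.Agent.H856.TwoEleven.isPGroup_of_isElem2 hV)
  have hV' := Cfsg.Agent.H856.TwoEleven.isElem2_smul hV g
  obtain ⟨O', hO', him, hW⟩ := classify C.toFrame hV'.1 hg
    (by rw [Cfsg.Agent.H856.TwoEleven.card_smul, hcard]) (hVE g)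
  obtain ⟨h, hh⟩ := exists_conj_AG hO' hV'.1 hg him hW
  obtain ⟨p, hp⟩ := FusionComm.exists_out hO
  obtain ⟨p', hp'⟩ := FusionComm.exists_out hO'
  obtain ⟨k, hk, hkO, -⟩ := Cfsg.Agent.SporadicStructure.M24Frame.exists_smul_octad hO' hO hp' hp
  refine ⟨C.φ ⟨k, hk⟩ * h * g, ?_⟩
  rw [map_mul, map_mul, mul_smul, mul_smul, hh, smul_AG]
  show AG C (k • O') = _
  rw [hkO]

/-- `A(O)` is self-centralising -/
theorem AG_cent [Finite G] (C : J4Type.Compl G) {O : Finset GolayPt} (hO : O ∈ octads) :
    Subgroup.centralizer (AG C O : Set G) = AG C O := by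
  apply le_antisymm
  · intro x hx
    rw [Subgroup.mem_centralizer_iff] at hx
    have hO8 : O.card = 8 := octad_card hO
    obtain ⟨p, hp, q, hq, hpq⟩ := Finset.one_lt_card.1 (show 1 < O.card by omega)
    have hd : ∀ p ∈ O, ∀ q ∈ O, p ≠ q → x * C.ε {p, q} = C.ε {p, q} * x := fun p hp q hq hpq =>
      (hx _ (WG_le_AG O (duad_mem_WG hp hq hpq))).symm
    have hxN : x ∈ Subgroup.normalizer (C.E hex0 : Set G) :=
      DuadCent.duad_cent C.toFrame hpq (hd p hp q hq hpq)
    have hfix : ∀ r ∈ O, (C.π ⟨x, hxN⟩ : Equiv.Perm GolayPt) r = r := by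
      intro r hr
      obtain ⟨s, hs, hsr⟩ := Finset.exists_mem_ne (show 1 < O.card by omega) r
      obtain ⟨t, ht, htn⟩ : ∃ t ∈ O, t ∉ ({r, s} : Finset GolayPt) := by
        by_contra hno
        push Not at hno
        have h4 := Finset.card_le_card (fun z hz => hno z hz : O ⊆ {r, s})
        have h5 := Finset.card_le_two (a := r) (b := s)
        omega
      simp only [Finset.mem_insert, Finset.mem_singleton, not_or] at htn
      rcases duad_comm (F := C.toFrame) (n := ⟨x, hxN⟩) hsr.symm (hd r hr s hs hsr.symm) with h | h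
      · exact h
      · rcases duad_comm (F := C.toFrame) (n := ⟨x, hxN⟩) (Ne.symm htn.1)
          (hd r hr t ht (Ne.symm htn.1)) with h' | h'
        · exact h'
        · exact absurd (h'.symm.trans h) htn.2
    have hb : (C.π ⟨x, hxN⟩ : Equiv.Perm GolayPt) ∈ fixOct O :=
      mem_fixOct.2 ⟨(C.π ⟨x, hxN⟩).2, hfix⟩
    refine ⟨x * (C.φ (C.π ⟨x, hxN⟩))⁻¹, ?_, C.π ⟨x, hxN⟩, hb, by group⟩
    have he := div_mem (C := C) hxN
    set e := x * (C.φ (C.π ⟨x, hxN⟩))⁻¹ with hedef
    obtain ⟨a, ha, b, hb', ha1, hb1, hab⟩ := FusionFact.exists_two_of_card (K := fixOct O)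
      (by rw [card_fixOct hO]; norm_num)
    have hcomm : ∀ (a : M24), (a : Equiv.Perm GolayPt) ∈ fixOct O → C.φ a * e = e * C.φ a := by
      intro a ha
      have h1 := hx _ (φ_mem_AG (C := C) ha)
      have h2 : C.φ a * C.φ (C.π ⟨x, hxN⟩) = C.φ (C.π ⟨x, hxN⟩) * C.φ a := by
        rw [← map_mul, ← map_mul]
        congr 1
        exact Subtype.ext (FusionComm.fixOct_comm hO ha hb)
      have h3 : C.φ a * (C.φ (C.π ⟨x, hxN⟩))⁻¹ = (C.φ (C.π ⟨x, hxN⟩))⁻¹ * C.φ a := by
        rw [mul_inv_eq_iff_eq_mul, mul_assoc, h2, inv_mul_cancel_left]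
      rw [hedef, ← mul_assoc, h1, mul_assoc, h3, mul_assoc]
    have hπ : ∀ a : M24, C.π ⟨C.φ a, C.φ_mem a⟩ = a := C.π_φ
    have haM := (mem_fixOct.1 ha).1
    have hbM := (mem_fixOct.1 hb').1
    apply mem_WG_of_comm (F := C.toFrame) hO (n := ⟨C.φ ⟨a, haM⟩, C.φ_mem _⟩)
      (m := ⟨C.φ ⟨b, hbM⟩, C.φ_mem _⟩)
    · rw [hπ]; exact ha
    · rw [hπ]; exact fun h => ha1 (congrArg Subtype.val h)
    · rw [hπ]; exact hb'
    · rw [hπ]; exact fun h => hb1 (congrArg Subtype.val h)
    · rw [hπ, hπ]; exact fun h => hab (congrArg Subtype.val h)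
    · exact he
    · exact hcomm ⟨a, haM⟩ ha
    · exact hcomm ⟨b, hbM⟩ hb'
  · intro x hx
    rw [Subgroup.mem_centralizer_iff]
    intro y hy
    exact comm_of_sq (AG_sq hO) y hy x hx

end

end Cfsg.Agent.H857.Normal
end

-- part: H857/T10Model
section
/-!
# The transvections of `L₅(2)` in the normaliser of `A(O)` (helper857)

`exists_model` : for `C : J4Type.Compl G`, `G` finite simple, and the octad `O₀ = {7,8,9,10,11,14,17,19}`: there are
`X E` with `Rel5 X E` and `A(O₀) = A0 E`, of order `2^10`.
-/

set_option autoImplicit false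

open scoped Pointwise

namespace Cfsg.Agent.H857.T10Model

open Cfsg Cfsg.Agent.SporadicA.GolayBase Cfsg.Agent.SporadicA.OctadFix
open Cfsg.Agent.SporadicA.GolayPerm (papp pack)
open Cfsg.Agent.J4.M24Hom (XM YM)
open Cfsg.Agent.Lib.F2Mat (force force_eq)
open Cfsg.Agent.Lib.F2MatGroup Cfsg.Agent.J4.Beta
open Cfsg.Agent.J4Type Cfsg.Agent.J4Type.CocodeMask Cfsg.Agent.J4Type.TauM24
open Cfsg.Agent.J4Type.TauMask Cfsg.Agent.J4Type.FrameDefs Cfsg.Agent.J4Type.FinalRel
open Cfsg.Agent.J4Type.CocodeAct
open Cfsg.Agent.H857.Fix Cfsg.Agent.H857.WGrp Cfsg.Agent.H857.Card Cfsg.Agent.H857.Normal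
open Cfsg.Agent.H857.T10Data Cfsg.Agent.H857.T10Rel Cfsg.Agent.H857.T10Act

/-! ### Words in `M24` -/

def PX : ℕ := 521366414552910786153029034648536137
def PY : ℕ := 525297441932761576910024532220217649
def PYi : ℕ := 564244736107816087341282620692793450

theorem tabX : IsTab XM PX := by
  show ∀ p : GolayPt, idx (Cfsg.Agent.J4.M24Hom.X p) = papp PX (idx p)
  decide +kernel

theorem tabY : IsTab YM PY := by
  show ∀ p : GolayPt, idx (Cfsg.Agent.J4.M24Hom.Y p) = papp PY (idx p)
  decide +kernel

theorem tabYi : IsTab YM⁻¹ PYi := by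
  show ∀ p : GolayPt, idx (Cfsg.Agent.J4.M24Hom.Y.symm p) = papp PYi (idx p)
  decide +kernel

/-- the letters in `M24` -/
def lM : List M24 := [1, XM, YM, YM⁻¹, 1]

/-- the tables of the letters -/
def tabL : ℕ → ℕ
  | 1 => PX
  | 2 => PY
  | 3 => PYi
  | _ => pone

theorem g0 : getG lM 0 = 1 := rfl
theorem g1 : getG lM 1 = XM := rfl
theorem g2 : getG lM 2 = YM := rfl
theorem g3 : getG lM 3 = YM⁻¹ := rfl
theorem g4 : getG lM 4 = 1 := rfl
theorem g5 (n : ℕ) : getG lM (n + 5) = 1 := rfl
theorem t0 : tabL 0 = pone := rfl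
theorem t1 : tabL 1 = PX := rfl
theorem t2 : tabL 2 = PY := rfl
theorem t3 : tabL 3 = PYi := rfl
theorem t4 (n : ℕ) : tabL (n + 4) = pone := rfl

theorem isTab_letter (i : ℕ) : IsTab (getG lM i) (tabL i) := by
  match i with
  | 0 => rw [g0, t0]; exact isTab_one
  | 1 => rw [g1, t1]; exact tabX
  | 2 => rw [g2, t2]; exact tabY
  | 3 => rw [g3, t3]; exact tabYi
  | 4 => rw [g4, show tabL 4 = pone from t4 0]; exact isTab_one
  | (n + 5) => rw [g5, show tabL (n + 5) = pone from t4 (n + 1)]; exact isTab_one

/-- run the word, starting with a table, and apply `k` to the resulting table -/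
def tabK : List ℕ → ℕ → (ℕ → Bool) → Bool
  | [], acc, k => k acc
  | i :: w, acc, k => force (tabL i) fun P => force (CocodeMask.pcomp acc P) fun acc' => tabK w acc' k

theorem tabK_cons (i : ℕ) (w : List ℕ) (acc : ℕ) (k : ℕ → Bool) :
    tabK (i :: w) acc k = tabK w (CocodeMask.pcomp acc (tabL i)) k := by
  rw [tabK, force_eq, force_eq]

theorem tabK_sound {w : List ℕ} {acc : ℕ} {k : ℕ → Bool} {g : M24} (hg : IsTab g acc)
    (h : tabK w acc k = true) : ∃ P, IsTab (g * evG lM w) P ∧ k P = true := by
  induction w generalizing acc g with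
  | nil => exact ⟨acc, by rw [evG_nil, mul_one]; exact hg, h⟩
  | cons i w ih =>
    rw [tabK_cons] at h
    obtain ⟨P, hP, hk⟩ := ih (hg.mul (isTab_letter i)) h
    refine ⟨P, ?_, hk⟩
    rwa [evG_cons, ← mul_assoc]

theorem evG_congr {G : Type*} [Group G] {L L' : List G} {w : List ℕ}
    (h : ∀ i ∈ w, getG L i = getG L' i) : evG L w = evG L' w := by
  induction w with
  | nil => rfl
  | cons i w ih =>
    rw [evG_cons, evG_cons, h i (List.mem_cons_self ..),
      ih (fun j hj => h j (List.mem_cons_of_mem _ hj))]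

/-! ### beta -/

section

variable {G : Type*} [Group G]

theorem beta_append (l l' : List G) (v : ℕ) :
    beta (l ++ l') v = beta l v * beta l' (v / 2 ^ l.length) := by
  induction l generalizing v with
  | nil => simp [beta_nil]
  | cons a l ih =>
    rw [List.cons_append, beta_cons, ih, beta_cons, List.length_cons, pow_succ', Nat.div_div_eq_div_mul,
      mul_assoc]

theorem beta_map {H : Type*} [Group H] (f : G →* H) (l : List G) (v : ℕ) :
    beta (l.map f) v = f (beta l v) := by
  induction l generalizing v with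
  | nil => simp [beta_nil]
  | cons a l ih =>
    rw [List.map_cons, beta_cons, beta_cons, map_mul, ih]
    split_ifs <;> simp

theorem beta_c (F : Frame G) (l : List ℕ) (hl : ∀ s ∈ l, ev s = true) (v : ℕ) :
    ev (J4.Beta.lin l v) = true ∧
      beta (l.map fun s => (c F s : G)) v = (c F (J4.Beta.lin l v) : G) := by
  induction l generalizing v with
  | nil =>
    rw [lin_nil, List.map_nil, beta_nil, c_zero]
    exact ⟨ev_zero, rfl⟩
  | cons s l ih =>
    obtain ⟨h1, h2⟩ := ih (fun t ht => hl t (List.mem_cons_of_mem _ ht)) (v / 2)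
    have hs := hl s (List.mem_cons_self ..)
    rw [lin_cons, List.map_cons, beta_cons, h2]
    split_ifs
    · exact ⟨ev_xor hs h1, (c_xor F hs h1).symm⟩
    · exact ⟨h1, by rw [one_mul]⟩

end

/-! ### The data -/

/-- the octad -/
def O0m : ℕ := 675712

/-- the octad -/
def O0 : Finset GolayPt := fin O0m

theorem O0_mem : O0 ∈ octads := by
  rw [O0, fin_mem_octads_iff (by decide)]
  decide +kernel

/-- masks of the six sextets -/
def MW : List ℕ := [691, 2772, 3524, 3117, 1230, 1415]
/-- four-subsets of the octad -/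
def W6 : List ℕ := [541056, 148608, 525952, 133504, 19584, 17280]

theorem W6_ok : ∀ i < 6, W6.getD i 0 < 2 ^ 24 ∧ W6.getD i 0 &&& O0m = W6.getD i 0 ∧
    popcount (W6.getD i 0) % 2 = 0 ∧ (W6.getD i 0 ^^^ enc (W6.getD i 0)) >>> 12 = MW.getD i 0 := by
  decide +kernel

theorem isW_MW {i : ℕ} (hi : i < 6) : IsW O0 (MW.getD i 0) := by
  obtain ⟨h1, h2, h3, h4⟩ := W6_ok i hi
  refine ⟨fin (W6.getD i 0), ?_, ?_, ?_⟩
  · intro p hp
    rw [O0, mem_fin]
    rw [mem_fin] at hp
    rw [← h2, Nat.testBit_and, Bool.and_eq_true] at hp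
    exact hp.2
  · rw [card_fin, Nat.even_iff]
    exact h3
  · rw [msk, maskOf_fin h1, h4]

/-- the word of the basis element `k, l` -/
def wE (p : Fin 5 × Fin 5) : List ℕ := ws.getD (25 + (5 * (p.1 : ℕ) + p.2)) []

/-- the part of the word before / after the letter 0 -/
def pre (w : List ℕ) : List ℕ := w.takeWhile fun i => !(Nat.beq i 0)
def post (w : List ℕ) : List ℕ := (w.dropWhile fun i => !(Nat.beq i 0)).tail

/-- the first six pairs / the last four pairs -/
def L6 : List (Fin 5 × Fin 5) := [(0, 1), (0, 2), (0, 3), (1, 2), (1, 3), (2, 3)]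
def L4 : List (Fin 5 × Fin 5) := [(0, 4), (1, 4), (2, 4), (3, 4)]

def letOk (w : List ℕ) : Bool := w.all fun i => Nat.beq i 1 || Nat.beq i 2 || Nat.beq i 3

/-- check of one of the six sextet words -/
def sixOk (i : ℕ) : Bool :=
  letOk (pre (wE (L6.getD i (0, 0)))) && letOk (post (wE (L6.getD i (0, 0)))) &&
    tabK (pre (wE (L6.getD i (0, 0)))) pone fun P =>
      Nat.beq (actT P 2179) (MW.getD i 0) &&
        tabK (post (wE (L6.getD i (0, 0)))) P fun Q => Nat.beq Q pone

theorem six_word : ∀ i < 6, wE (L6.getD i (0, 0)) =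
    pre (wE (L6.getD i (0, 0))) ++ 0 :: post (wE (L6.getD i (0, 0))) := by
  decide +kernel

theorem six_ok : ∀ i < 6, sixOk i = true := by decide +kernel

/-- check of one of the four words of `M24` -/
def fourOk (p : Fin 5 × Fin 5) : Bool :=
  letOk (wE p) && tabK (wE p) pone fun P =>
    (List.range 24).all fun i => !(O0m.testBit i) || Nat.beq (papp P i) i

theorem four_ok : ∀ p ∈ L4, fourOk p = true := by decide +kernel

theorem msk_tetB : msk tetB = 2179 := by
  have h : tetB = fin 4196417 := by decide +kernel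
  rw [h, msk, maskOf_fin (by norm_num)]
  decide +kernel

/-- the element of `M24` under the basis element -/
def bm (p : Fin 5 × Fin 5) : M24 := evG lM (wE p)

theorem bm_mem {p : Fin 5 × Fin 5} (hp : p ∈ L4) : (bm p : Equiv.Perm GolayPt) ∈ fixOct O0 := by
  have h := four_ok p hp
  rw [fourOk, Bool.and_eq_true] at h
  obtain ⟨P, hP, h1⟩ := tabK_sound isTab_one h.2
  rw [one_mul] at hP
  rw [List.all_eq_true] at h1
  refine mem_fixOct.2 ⟨(bm p).2, fun x hx => ?_⟩
  apply idx_injective
  have h2 := h1 (idx x) (List.mem_range.2 (idx_lt x))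
  have h3 : O0m.testBit (idx x) = true := mem_fin.1 hx
  rw [h3, Bool.not_true, Bool.false_or, Nat.beq_eq] at h2
  exact (hP x).trans h2

/-- image of a point under a product over the bits -/
def imgB : List ℕ → ℕ → ℕ → ℕ
  | [], _, x => x
  | P :: l, v, x => bif Nat.beq (v % 2) 1 then papp P (imgB l (v / 2) x) else imgB l (v / 2) x

theorem imgB_eq {gs : List M24} {Ps : List ℕ} (h : List.Forall₂ IsTab gs Ps) (v : ℕ)
    (x : GolayPt) : idx (((beta gs v : M24) : Equiv.Perm GolayPt) x) = imgB Ps v (idx x) := by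
  induction h generalizing v with
  | nil => rfl
  | @cons g P gs Ps h1 _ ih =>
    rw [beta_cons, imgB]
    by_cases hv : v % 2 = 1
    · rw [if_pos hv, hv]
      show idx ((g : Equiv.Perm GolayPt) (((beta gs (v / 2) : M24) : Equiv.Perm GolayPt) x)) =
        papp P (imgB Ps (v / 2) (idx x))
      rw [h1, ih]
    · have h0 : v % 2 = 0 := by omega
      rw [if_neg hv, one_mul, h0]
      exact ih _

/-- check of the independence of the four elements of `M24` -/
def indOk : Bool :=
  tabK (wE (0, 4)) pone fun P0 => tabK (wE (1, 4)) pone fun P1 => tabK (wE (2, 4)) pone fun P2 =>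
    tabK (wE (3, 4)) pone fun P3 =>
      (List.range 16).all fun u => Nat.beq u 0 || !(Nat.beq (imgB [P0, P1, P2, P3] u 0) 0)

theorem indOk_true : indOk = true := by decide +kernel

theorem indB {u : ℕ} (hu : u < 16) (h0 : u ≠ 0) : beta (L4.map bm) u ≠ 1 := by
  obtain ⟨P0, h1, h⟩ := tabK_sound isTab_one indOk_true
  obtain ⟨P1, h2, h⟩ := tabK_sound isTab_one h
  obtain ⟨P2, h3, h⟩ := tabK_sound isTab_one h
  obtain ⟨P3, h4, h⟩ := tabK_sound isTab_one h
  rw [one_mul] at h1 h2 h3 h4
  rw [List.all_eq_true] at h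
  have h5 := h u (List.mem_range.2 hu)
  rw [Bool.or_eq_true, Nat.beq_eq, Bool.not_eq_true'] at h5
  rcases h5 with h5 | h5
  · exact absurd h5 h0
  · intro h6
    have h7 := imgB_eq (.cons h1 (.cons h2 (.cons h3 (.cons h4 .nil)))) u (pt 0)
    change idx (((beta (L4.map bm) u : M24) : Equiv.Perm GolayPt) (pt 0)) = _ at h7
    rw [h6, idx_pt (by norm_num)] at h7
    have h8 : idx (((1 : M24) : Equiv.Perm GolayPt) (pt 0)) = 0 := by
      rw [Subgroup.coe_one, Equiv.Perm.one_apply]
      exact idx_pt (by norm_num)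
    rw [h8] at h7
    rw [← h7, Nat.beq_refl] at h5
    exact absurd h5 (by decide)

theorem indW : ∀ u < 64, J4.Beta.lin MW u = 0 → u = 0 := by decide +kernel

theorem duW : J4.Beta.lin MW 26 = st 7 ^^^ st 8 := by decide +kernel

theorem MW_ev : ∀ s ∈ MW, ev s = true := by decide +kernel

section

variable {G : Type*} [Group G] (C : J4Type.Compl G) (f : Cfsg.Spor.J4 →* G)
  (hphi : ∀ g : M24, f (Cfsg.Agent.J4.Pres.phi g) = C.φ g)
  (hs : f Cfsg.Agent.J4.Invol.s = C.ε tetB)

include hphi

theorem letter_eq {i : ℕ} (hi : i = 1 ∨ i = 2 ∨ i = 3) :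
    getG (gens5.map f) i = getG (lM.map C.φ) i := by
  have hx : f Cfsg.Agent.J4.Rep112.x = C.φ XM := by
    rw [← Cfsg.Agent.J4.Pres.phi_X, hphi]
  have hy : f Cfsg.Agent.J4.Rep112.y = C.φ YM := by
    rw [← Cfsg.Agent.J4.Pres.phi_Y, hphi]
  rcases hi with rfl | rfl | rfl
  · exact hx
  · exact hy
  · show f (Cfsg.Agent.J4.Rep112.y)⁻¹ = C.φ YM⁻¹
    rw [map_inv, map_inv, hy]

theorem word_eq {w : List ℕ} (hw : letOk w = true) :
    evG (gens5.map f) w = C.φ (evG lM w) := by
  rw [← evG_map]
  apply evG_congr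
  intro i hi
  apply letter_eq C f hphi
  rw [letOk, List.all_eq_true] at hw
  have := hw i hi
  simp only [Bool.or_eq_true, Nat.beq_eq] at this
  tauto

theorem E_four {p : Fin 5 × Fin 5} (hp : p ∈ L4) : E (gens5.map f) p.1 p.2 = C.φ (bm p) := by
  have h := four_ok p hp
  rw [fourOk, Bool.and_eq_true] at h
  exact word_eq C f hphi h.1

include hs

theorem word_six {u v : List ℕ} {m : ℕ} (hu : letOk u = true) (hv : letOk v = true)
    (hk : (tabK u pone fun P => Nat.beq (actT P 2179) m && tabK v P fun Q => Nat.beq Q pone) = true) :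
    evG (gens5.map f) (u ++ 0 :: v) = (c C.toFrame m : G) ∧
    ∃ g : M24, (c C.toFrame m : G) = C.φ g * C.ε tetB * (C.φ g)⁻¹ := by
  obtain ⟨P, hP, h5⟩ := tabK_sound isTab_one hk
  rw [Bool.and_eq_true, Nat.beq_eq] at h5
  rw [one_mul] at hP
  obtain ⟨Q, hQ, h6⟩ := tabK_sound hP h5.2
  rw [Nat.beq_eq] at h6
  rw [h6] at hQ
  have h7 : evG lM u * evG lM v = 1 := hQ.eq isTab_one
  have hB : Even tetB.card := by
    have : tetB.card = 4 := by decide +kernel
    rw [this]; decide
  have h8 : evG (gens5.map f) (u ++ 0 :: v) =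
      C.φ (evG lM u) * C.ε tetB * (C.φ (evG lM u))⁻¹ := by
    rw [evG_append, evG_cons, word_eq C f hphi hu, word_eq C f hphi hv, ← map_inv,
      inv_eq_of_mul_eq_one_right h7]
    show _ * (f Cfsg.Agent.J4.Invol.s * _) = _
    rw [hs]
    group
  have h9 : C.φ (evG lM u) * C.ε tetB * (C.φ (evG lM u))⁻¹ = (c C.toFrame m : G) := by
    rw [← c_msk C.toFrame hB, φ_c C _ (ev_msk hB), act_eq hP, msk_tetB, h5.1]
  exact ⟨h8.trans h9, _, h9.symm⟩

theorem E_six {i : ℕ} (hi : i < 6) : E (gens5.map f) (L6.getD i (0, 0)).1 (L6.getD i (0, 0)).2 =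
      (c C.toFrame (MW.getD i 0) : G) ∧
    ∃ g : M24, (c C.toFrame (MW.getD i 0) : G) = C.φ g * C.ε tetB * (C.φ g)⁻¹ := by
  have h0 := six_ok i hi
  have h1 := six_word i hi
  rw [sixOk, Bool.and_eq_true, Bool.and_eq_true] at h0
  have h2 := word_six C f hphi hs h0.1.1 h0.1.2 h0.2
  rw [← h1] at h2
  exact h2

theorem bl_eq : bl (E (gens5.map f)) = (MW.map fun s => (c C.toFrame s : G)) ++
    (L4.map bm).map C.φ := by
  have h0 := (E_six C f hphi hs (i := 0) (by norm_num)).1
  have h1 := (E_six C f hphi hs (i := 1) (by norm_num)).1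
  have h2 := (E_six C f hphi hs (i := 2) (by norm_num)).1
  have h3 := (E_six C f hphi hs (i := 3) (by norm_num)).1
  have h4 := (E_six C f hphi hs (i := 4) (by norm_num)).1
  have h5 := (E_six C f hphi hs (i := 5) (by norm_num)).1
  have g0 := E_four C f hphi (p := (0, 4)) (by decide)
  have g1 := E_four C f hphi (p := (1, 4)) (by decide)
  have g2 := E_four C f hphi (p := (2, 4)) (by decide)
  have g3 := E_four C f hphi (p := (3, 4)) (by decide)
  change E (gens5.map f) 0 1 = (c C.toFrame 691 : G) at h0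
  change E (gens5.map f) 0 2 = (c C.toFrame 2772 : G) at h1
  change E (gens5.map f) 0 3 = (c C.toFrame 3524 : G) at h2
  change E (gens5.map f) 1 2 = (c C.toFrame 3117 : G) at h3
  change E (gens5.map f) 1 3 = (c C.toFrame 1230 : G) at h4
  change E (gens5.map f) 2 3 = (c C.toFrame 1415 : G) at h5
  simp only [bl, L10, L4, MW, List.map_cons, List.map_nil, List.cons_append, List.nil_append,
    h0, h1, h2, h3, h4, h5, g0, g1, g2, g3]

theorem beta_eq (v : ℕ) : beta (bl (E (gens5.map f))) v =
    (c C.toFrame (J4.Beta.lin MW v) : G) * C.φ (beta (L4.map bm) (v / 64)) := by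
  rw [bl_eq C f hphi hs, beta_append, (beta_c C.toFrame MW MW_ev v).2, beta_map]
  rfl

theorem beta_one {v : ℕ} (hv : v < 1024) (h : beta (bl (E (gens5.map f))) v = 1) : v = 0 := by
  rw [beta_eq C f hphi hs] at h
  have hev := (beta_c C.toFrame MW MW_ev v).1
  have hE := c_mem C.toFrame hev
  have hN : (c C.toFrame (J4.Beta.lin MW v) : G) * C.φ (beta (L4.map bm) (v / 64)) ∈
      Subgroup.normalizer (C.E hex0 : Set G) := by rw [h]; exact one_mem _
  have h1 := π_mul hE (beta (L4.map bm) (v / 64)) hN
  have h2 : C.π ⟨_, hN⟩ = 1 := (C.π_ker ⟨_, hN⟩).2 (by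
    show (c C.toFrame (J4.Beta.lin MW v) : G) * C.φ (beta (L4.map bm) (v / 64)) ∈ _
    rw [h]; exact one_mem _)
  rw [h2] at h1
  have h3 : v / 64 = 0 := by
    by_contra h3
    exact indB (by omega) h3 h1.symm
  rw [← h1, map_one, mul_one] at h
  have h5 : J4.Beta.lin MW v = 0 := c_inj C.toFrame hev ev_zero (by rw [h, c_zero])
  exact indW v (by omega) h5

theorem A0_le : A0 (E (gens5.map f)) ≤ AG C O0 := by
  rw [A0, Subgroup.closure_le]
  intro q hq
  have hq' : q ∈ bl (E (gens5.map f)) := hq
  rw [bl_eq C f hphi hs, List.mem_append] at hq'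
  rcases hq' with h | h
  · apply WG_le_AG
    rw [List.mem_map] at h
    obtain ⟨s, hs', rfl⟩ := h
    apply c_mem_WG
    have hall : ∀ s ∈ MW, ∃ i < 6, MW.getD i 0 = s := by decide
    obtain ⟨i, hi, rfl⟩ := hall s hs'
    exact isW_MW hi
  · rw [List.mem_map] at h
    obtain ⟨b, hb, rfl⟩ := h
    rw [List.mem_map] at hb
    obtain ⟨p, hp, rfl⟩ := hb
    exact φ_mem_AG (bm_mem hp)

theorem card_A0_ge [Finite G] (h : Rel5 (X (gens5.map f)) (E (gens5.map f))) :
    1024 ≤ Nat.card (A0 (E (gens5.map f))) := by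
  have h1 : Nat.card (Fin 1024) ≤ Nat.card (A0 (E (gens5.map f))) := by
    refine Nat.card_le_card_of_injective
      (fun v : Fin 1024 => (⟨beta (bl (E (gens5.map f))) v, beta_mem_A0 _⟩ : A0 (E (gens5.map f)))) ?_
    intro v w hvw
    have h2 : beta (bl (E (gens5.map f))) v = beta (bl (E (gens5.map f))) w :=
      congrArg Subtype.val hvw
    have h3 : beta (bl (E (gens5.map f))) ((v : ℕ) ^^^ (w : ℕ)) = 1 := by
      rw [beta_xor _ (bl_sq h) (bl_comm h), h2, beta_sq _ (bl_sq h) (bl_comm h)]
    have h4 := beta_one C f hphi hs (Nat.xor_lt_two_pow (n := 10) v.2 w.2) h3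
    exact Fin.ext (Nat.xor_eq_zero_iff.1 h4)
  rwa [Nat.card_eq_fintype_card, Fintype.card_fin] at h1

end

/-- `|A(O)| ≤ 2^10` -/
theorem card_AG_le {G : Type*} [Group G] [Finite G] (C : J4Type.Compl G) {O : Finset GolayPt}
    (hO : O ∈ octads) : Nat.card (AG C O) ≤ 1024 := by
  rw [card_eq_mul C.toFrame (AG_le_norm O)]
  have h1 : Nat.card (AG C O ⊓ C.E hex0 : Subgroup G) ≤ 64 := by
    rw [AG_inf]
    exact card_WG_le hO
  have h2 : Nat.card (im C.toFrame (AG C O)) ≤ 16 := by
    have h3 : im C.toFrame (AG C O) ≤ fixOct O := by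
      intro x hx
      obtain ⟨n, ⟨w, hw, b, hb, hn⟩, rfl⟩ := (mem_im C.toFrame).1 hx
      have h4 := π_mul (WG_le O hw) b (by rw [hn]; exact n.2)
      have h5 : (⟨w * C.φ b, by rw [hn]; exact n.2⟩ : Subgroup.normalizer (C.E hex0 : Set G)) = n :=
        Subtype.ext hn
      rw [h5] at h4
      show ((C.π n : M24) : Equiv.Perm GolayPt) ∈ _
      rw [h4]
      exact hb
    have h4 := Subgroup.card_le_of_le h3
    rwa [card_fixOct hO] at h4
  exact (Nat.mul_le_mul h1 h2).trans (by norm_num)

theorem pt_mem : pt 7 ∈ O0 ∧ pt 8 ∈ O0 ∧ pt 7 ≠ pt 8 := by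
  refine ⟨?_, ?_, ?_⟩
  · rw [O0, mem_fin, idx_pt (by norm_num)]; decide
  · rw [O0, mem_fin, idx_pt (by norm_num)]; decide
  · decide

/-- **the model** -/
theorem exists_model {G : Type*} [Group G] [Finite G] [IsSimpleGroup G] (C : J4Type.Compl G) :
    ∃ X E : Fin 5 → Fin 5 → G, Rel5 X E ∧ A0 E = AG C O0 ∧ Nat.card (A0 E) = 1024 ∧
      IsConj C.z (beta (bl E) 1) ∧ (∃ p ∈ O0, ∃ q ∈ O0, p ≠ q ∧ beta (bl E) 26 = C.ε {p, q}) ∧
      (∀ v < 1024, beta (bl E) v = 1 → v = 0) := by
  obtain ⟨T, rfl⟩ := TauMain.exists_tau C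
  obtain ⟨f, hphi, -, hs, -, -⟩ := (FinalTau.Tau.tauFam T (Rel2.relator2 T)).exists_hom
  have h := rel5_of_hom (Final.rho_injective Cfsg.Agent.S1703.result) f
  have h1 := card_A0_ge T.toCompl f hphi hs h
  have h2 := A0_le T.toCompl f hphi hs
  have h3 := Subgroup.card_le_of_le h2
  have h4 := card_AG_le T.toCompl O0_mem
  refine ⟨_, _, h, Subgroup.eq_of_le_of_card_ge h2 (by omega), by omega, ?_, ?_, ?_⟩
  · obtain ⟨h5, g, h6⟩ := E_six T.toCompl f hphi hs (i := 0) (by norm_num)
    have h7 : beta (bl (E (gens5.map f))) 1 = E (gens5.map f) 0 1 := beta_bit h 0 1 (by decide)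
    have h8 : tetB.card = 4 := by decide +kernel
    rw [h7]
    change E (gens5.map f) 0 1 = _ at h5
    rw [h5, h6]
    exact (DuadCent.isConj_four T.toFrame h8).trans (isConj_iff.2 ⟨_, rfl⟩)
  · refine ⟨pt 7, pt_mem.1, pt 8, pt_mem.2.1, pt_mem.2.2, ?_⟩
    rw [beta_eq T.toCompl f hphi hs, duW, show 26 / 64 = 0 from rfl, beta_zero, map_one, mul_one,
      ← c_du (F := T.toFrame) pt_mem.2.2]
    rw [du, idx_pt (by norm_num), idx_pt (by norm_num)]
  · intro v hv hv1
    exact beta_one T.toCompl f hphi hs hv hv1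

end Cfsg.Agent.H857.T10Model
end

-- part: H857/T10Norm
section
/-!
# The order of `N_G(A(O))` (helper857)

`card_norm_le` : `|N_G(A(O₀))| ≤ 2^10 · 9999360`.
-/

set_option autoImplicit false

open scoped Pointwise

namespace Cfsg.Agent.H857.T10Norm

open Cfsg Cfsg.Agent.SporadicA.GolayBase Cfsg.Agent.SporadicA.OctadFix
open Cfsg.Agent.SporadicA.GolayPerm (smul_mem_octads)
open Cfsg.Agent.J4.Beta
open Cfsg.Agent.J4Type Cfsg.Agent.J4Type.FrameDefs
open Cfsg.Agent.H857.WGrp Cfsg.Agent.H857.Card Cfsg.Agent.H857.Normal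
open Cfsg.Agent.H857.T10Rel Cfsg.Agent.H857.T10Act Cfsg.Agent.H857.T10Model

theorem card_stab_octad {O : Finset GolayPt} (hO : O ∈ octads) :
    Nat.card (MulAction.stabilizer M24 O) = 322560 := by
  have h1 : (MulAction.orbit M24 O) = octads := by
    ext S
    constructor
    · rintro ⟨g, rfl⟩
      exact (smul_mem_octads g.2).2 hO
    · intro hS
      obtain ⟨g, hg⟩ := Cfsg.Agent.S0367.result O S hO hS
      exact ⟨g, hg⟩
  have h2 := (MulAction.stabilizer M24 O).card_mul_index
  rw [MulAction.index_stabilizer, Cfsg.Agent.S0364.result, h1, Cfsg.Agent.S0360.result] at h2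
  omega

variable {G : Type*} [Group G] {C : J4Type.Compl G}

/-- a duad in `W(O)` is contained in `O` -/
theorem mem_of_duad {O : Finset GolayPt} (hO : O ∈ octads) {x y : GolayPt} (hxy : x ≠ y)
    (h : C.ε {x, y} ∈ WG C.toFrame O) : x ∈ O := by
  classical
  by_contra hx
  -- an element of `fixOct O` moving `x` to a point different from `x`, `y`
  obtain ⟨z, hz, hzx, hzy⟩ : ∃ z, z ∉ O ∧ z ≠ x ∧ z ≠ y := by
    by_contra hno
    push Not at hno
    have h1 : (Finset.univ : Finset GolayPt) ⊆ O ∪ {x, y} := by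
      intro z _
      by_cases hzO : z ∈ O
      · exact Finset.mem_union_left _ hzO
      · apply Finset.mem_union_right
        rw [Finset.mem_insert, Finset.mem_singleton]
        by_cases hzx : z = x
        · exact Or.inl hzx
        · exact Or.inr (hno z hzO hzx)
    have h2 := (Finset.card_le_card h1).trans (Finset.card_union_le _ _)
    have h3 := Finset.card_le_two (a := x) (b := y)
    rw [Finset.card_univ, HexMax.card24, octad_card hO] at h2
    omega
  obtain ⟨b, ⟨hb, hbx⟩, -⟩ := existsUnique_fixOct hO hx hz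
  have hbM := (mem_fixOct.1 hb).1
  have h1 := φ_comm_WG C (b := ⟨b, hbM⟩) hb h
  have h2 := duad_comm (F := C.toFrame) (n := ⟨C.φ ⟨b, hbM⟩, C.φ_mem _⟩) hxy h1
  have hπ : C.π ⟨C.φ ⟨b, hbM⟩, C.φ_mem _⟩ = ⟨b, hbM⟩ := C.π_φ _
  rw [hπ] at h2
  rcases h2 with h2 | h2
  · exact hzx (hbx ▸ h2)
  · exact hzy (hbx ▸ h2)

/-- `N_E(A(O))` is a proper subgroup of `E` -/
theorem card_inf_E [Finite G] {O : Finset GolayPt} (hO : O ∈ octads) :
    Nat.card (Subgroup.normalizer (AG C O : Set G) ⊓ C.E hex0 : Subgroup G) ≤ 2 ^ 10 := by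
  obtain ⟨p, hp⟩ := FusionComm.exists_out hO
  have hne : O.Nonempty := by
    rw [← Finset.card_pos, octad_card hO]; norm_num
  obtain ⟨o, ho⟩ := hne
  have hpo : p ≠ o := fun h => hp (h ▸ ho)
  have hE : C.ε {p, o} ∈ C.E hex0 := C.ε_mem _ (even_pair' hpo)
  have h1 : C.ε {p, o} ∉ Subgroup.normalizer (AG C O : Set G) ⊓ C.E hex0 := by
    rintro ⟨h1, -⟩
    obtain ⟨a, ha, b, hb, ha1, hb1, hab⟩ := FusionFact.exists_two_of_card (K := fixOct O)
      (by rw [card_fixOct hO]; norm_num)
    have haM := (mem_fixOct.1 ha).1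
    set u : M24 := ⟨a, haM⟩ with hu
    have h2 := ((Subgroup.mem_normalizer_iff.1 h1) (C.φ u)).1 (φ_mem_AG ha)
    have h3 := (AG C O).mul_mem h2 ((AG C O).inv_mem (φ_mem_AG ha : C.φ u ∈ AG C O))
    have h4 := TauMain.φ_ε C u (even_pair' hpo)
    have hao : (u : Equiv.Perm GolayPt) o = o := (mem_fixOct.1 ha).2 o ho
    have h5 : (u : Equiv.Perm GolayPt) • ({p, o} : Finset GolayPt) =
        {(u : Equiv.Perm GolayPt) p, o} := by
      rw [Finset.smul_finset_insert, Finset.smul_finset_singleton]
      show ({(u : Equiv.Perm GolayPt) p, (u : Equiv.Perm GolayPt) o} : Finset GolayPt) = _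
      rw [hao]
    rw [h5] at h4
    have hup : (u : Equiv.Perm GolayPt) p ∉ O := by
      intro h
      have h6 := (mem_fixOct.1 ha).2 _ h
      exact hp ((u : Equiv.Perm GolayPt).injective h6 ▸ h)
    have hupo : (u : Equiv.Perm GolayPt) p ≠ o := fun h => hup (h ▸ ho)
    have hmv : p ≠ (u : Equiv.Perm GolayPt) p := by
      intro h
      exact ha1 (OctadFixTrans.eq_one_of_fix hO ha hp h.symm)
    have h6 : C.ε {p, o} * C.φ u * (C.ε {p, o})⁻¹ * (C.φ u)⁻¹ =
        C.ε {p, (u : Equiv.Perm GolayPt) p} := by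
      have e1 : C.ε {p, o} * C.φ u * (C.ε {p, o})⁻¹ * (C.φ u)⁻¹ =
          C.ε {p, o} * (C.φ u * C.ε {p, o} * (C.φ u)⁻¹)⁻¹ := by group
      rw [e1, h4, inv_eq_of_mul_eq_one_right (ε_sq C.toFrame (even_pair' hupo)),
        Finset.pair_comm p o, Finset.pair_comm ((u : Equiv.Perm GolayPt) p) o,
        ε_pair_mul (F := C.toFrame) (Ne.symm hpo) (Ne.symm hupo) hmv]
    rw [h6] at h3
    have h7 : C.ε {p, (u : Equiv.Perm GolayPt) p} ∈ AG C O ⊓ C.E hex0 :=
      ⟨h3, C.ε_mem _ (even_pair' hmv)⟩
    rw [AG_inf] at h7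
    exact duad_not_mem_WG hO hp hup hmv h7
  have h2 := two_mul_card_le (inf_le_right : Subgroup.normalizer (AG C O : Set G) ⊓ C.E hex0 ≤
    C.E hex0) hE h1
  rw [C.E_card hex0 HexMax.hex0_isHex] at h2
  omega

/-- `|N_G(A(O)) ∩ N_G(E)| ≤ 2^10 · 322560` -/
theorem card_inf_NE [Finite G] {O : Finset GolayPt} (hO : O ∈ octads) :
    Nat.card (Subgroup.normalizer (AG C O : Set G) ⊓ Subgroup.normalizer (C.E hex0 : Set G) :
      Subgroup G) ≤ 2 ^ 10 * 322560 := by
  rw [card_eq_mul C.toFrame (inf_le_right : Subgroup.normalizer (AG C O : Set G) ⊓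
    Subgroup.normalizer (C.E hex0 : Set G) ≤ _)]
  apply Nat.mul_le_mul
  · refine le_trans (Subgroup.card_le_of_le ?_) (card_inf_E (C := C) hO)
    exact inf_le_inf inf_le_left le_rfl
  · have h1 : im C.toFrame (Subgroup.normalizer (AG C O : Set G) ⊓
        Subgroup.normalizer (C.E hex0 : Set G)) ≤
        (MulAction.stabilizer M24 O).map M24.subtype := by
      intro x hx
      obtain ⟨n, ⟨hn, -⟩, rfl⟩ := (mem_im C.toFrame).1 hx
      refine ⟨C.π n, ?_, rfl⟩
      show (C.π n : M24) • O = O
      have h2 : (C.π n : Equiv.Perm GolayPt) • O = O := by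
        apply Classify.smul_eq_of_mapsTo
        intro x hx
        have hO8 : O.card = 8 := octad_card hO
        obtain ⟨y, hy, hyx⟩ := Finset.exists_mem_ne (show 1 < O.card by omega) x
        have h3 : C.ε {x, y} ∈ AG C O ⊓ C.E hex0 := by
          rw [AG_inf]
          exact duad_mem_WG hx hy hyx.symm
        have h4 : (n : G) * C.ε {x, y} * (n : G)⁻¹ ∈ AG C O ⊓ C.E hex0 :=
          ⟨((Subgroup.mem_normalizer_iff.1 hn) _).1 h3.1,
            ((Subgroup.mem_normalizer_iff.1 n.2) _).1 h3.2⟩
        rw [AG_inf, C.π_smul n _ (even_pair' hyx.symm), Finset.smul_finset_insert,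
          Finset.smul_finset_singleton] at h4
        apply mem_of_duad (C := C) hO (y := (C.π n : Equiv.Perm GolayPt) y) _ h4
        intro h5
        exact hyx ((C.π n : Equiv.Perm GolayPt).injective h5).symm
      exact h2
    refine le_trans (Subgroup.card_le_of_le h1) ?_
    rw [← card_stab_octad hO]
    exact (Nat.card_congr ((MulAction.stabilizer M24 O).equivMapOfInjective _
      (Subgroup.subtype_injective _)).toEquiv).symm.le

/-! ### The conjugates of `E` under `N_G(A)` -/

/-- the duads of `O` in `E` -/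
def duadsIn (C : J4Type.Compl G) (O : Finset GolayPt) : Set G :=
  {v | ∃ p ∈ O, ∃ q ∈ O, p ≠ q ∧ v = C.ε {p, q}}

theorem ncard_duadsIn {O : Finset GolayPt} (hO : O ∈ octads) : (duadsIn C O).ncard = 28 := by
  classical
  have h1 : duadsIn C O = ((Finset.powersetCard 2 O).image C.ε : Set G) := by
    ext v
    simp only [duadsIn, Set.mem_ofPred_eq, Finset.coe_image, Set.mem_image, Finset.mem_coe,
      Finset.mem_powersetCard]
    constructor
    · rintro ⟨p, hp, q, hq, hpq, rfl⟩
      refine ⟨{p, q}, ⟨?_, Finset.card_pair hpq⟩, rfl⟩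
      intro x hx
      rw [Finset.mem_insert, Finset.mem_singleton] at hx
      rcases hx with rfl | rfl <;> assumption
    · rintro ⟨S, ⟨hSO, hS⟩, rfl⟩
      obtain ⟨p, q, hpq, rfl⟩ := Finset.card_eq_two.1 hS
      exact ⟨p, hSO (by simp), q, hSO (by simp), hpq, rfl⟩
  rw [h1, Set.ncard_coe_finset, Finset.card_image_of_injOn, Finset.card_powersetCard,
    octad_card hO]
  · decide
  · intro S hS T hT h
    rw [Finset.mem_coe, Finset.mem_powersetCard] at hS hT
    exact Orbits.ε_pair_inj C.toFrame hS.2 hT.2 h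

/-- a duad determines the conjugate of `E` containing it -/
theorem mem_norm_of_conj [Finite G] {g : G} {p q r s : GolayPt} (hpq : p ≠ q) (hrs : r ≠ s)
    (h : g * C.ε {p, q} * g⁻¹ = C.ε {r, s}) : g ∈ Subgroup.normalizer (C.E hex0 : Set G) := by
  obtain ⟨n, hn, h1⟩ := CloseInst.conj_duad C.toFrame hpq hrs
  have h2 : n⁻¹ * g ∈ Subgroup.normalizer (C.E hex0 : Set G) := by
    apply DuadCent.duad_cent C.toFrame hpq
    have h3 : g * C.ε {p, q} * g⁻¹ = n * C.ε {p, q} * n⁻¹ := h.trans h1.symm
    calc n⁻¹ * g * C.ε {p, q} = n⁻¹ * (g * C.ε {p, q} * g⁻¹) * g := by group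
      _ = n⁻¹ * (n * C.ε {p, q} * n⁻¹) * g := by rw [h3]
      _ = _ := by group
  have h3 := mul_mem hn h2
  rwa [mul_inv_cancel_left] at h3

theorem card_norm_le [Finite G] {X E : Fin 5 → Fin 5 → G} (h : Rel5 X E)
    (hA : A0 E = AG C O0) (hcard : Nat.card (A0 E) = 1024)
    (hz : IsConj C.z (beta (bl E) 1))
    (hd : ∃ p ∈ O0, ∃ q ∈ O0, p ≠ q ∧ beta (bl E) 26 = C.ε {p, q})
    (ha1 : beta (bl E) 1 ≠ 1) (hb1 : beta (bl E) 26 ≠ 1) :
    Nat.card (Subgroup.normalizer (A0 E : Set G)) ≤ 2 ^ 10 * 9999360 := by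
  classical
  obtain ⟨p0, hp0, q0, hq0, hpq0, hb⟩ := hd
  have hab : ¬ IsConj (beta (bl E) 1) (beta (bl E) 26) := by
    intro h1
    rw [hb] at h1
    exact C.duad_not_conj p0 q0 hpq0 (hz.trans h1)
  obtain ⟨-, hB⟩ := ncard_orb h hcard hab ha1 hb1
  set N := Subgroup.normalizer (A0 E : Set G) with hN
  set S : Subgroup N := (Subgroup.normalizer (C.E hex0 : Set G)).subgroupOf N with hS
  have hScard : Nat.card S ≤ 2 ^ 10 * 322560 := by
    refine le_trans ?_ (card_inf_NE (C := C) O0_mem)
    refine Nat.card_le_card_of_injective (fun s : S => (⟨((s : N) : G), ?_, s.2⟩ :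
      (Subgroup.normalizer (AG C O0 : Set G) ⊓ Subgroup.normalizer (C.E hex0 : Set G) :
        Subgroup G))) ?_
    · rw [← hA]
      exact (s : N).2
    · intro s t hst
      have h' : ((s : N) : G) = ((t : N) : G) := by
        have := congrArg Subtype.val hst
        exact this
      exact Subtype.ext (Subtype.ext h')
  have hidx : S.index ≤ 31 := by
    have key : Nat.card ((N ⧸ S) × duadsIn C O0) ≤ Nat.card (Orbits.orb (A0 E) (beta (bl E) 26)) := by
      have hmem : ∀ (n : N) (d : duadsIn C O0), (n : G) * d * (n : G)⁻¹ ∈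
          Orbits.orb (A0 E) (beta (bl E) 26) := by
        intro n d
        obtain ⟨p, hp, q, hq, hpq, hdd⟩ := d.2
        have h1 : (d : G) ∈ A0 E := by
          rw [hA, hdd]
          exact WG_le_AG _ (duad_mem_WG hp hq hpq)
        have h2 : (d : G) ≠ 1 := by
          rw [hdd]
          intro h3
          have h4 := (C.ε_ker _ (even_pair' hpq)).1 h3
          have h5 := SporadicA.GolayBase.card_of_mem_supports h4
          rw [Finset.card_pair hpq] at h5
          omega
        rcases orb_cases h h1 h2 with ⟨⟨m, hm, h3⟩, -⟩ | ⟨⟨m, hm, h3⟩, -⟩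
        · exfalso
          apply C.duad_not_conj p q hpq
          rw [← hdd, ← h3]
          exact hz.trans (isConj_iff.2 ⟨m, rfl⟩)
        · refine ⟨(n : G) * m, mul_mem n.2 hm, ?_⟩
          rw [← h3]
          group
      refine Nat.card_le_card_of_injective (fun x : (N ⧸ S) × duadsIn C O0 =>
        (⟨(x.1.out : G) * x.2 * (x.1.out : G)⁻¹, hmem _ _⟩ :
          Orbits.orb (A0 E) (beta (bl E) 26))) ?_
      rintro ⟨a, d⟩ ⟨b, e⟩ hxy
      have h1 : (a.out : G) * d * (a.out : G)⁻¹ = (b.out : G) * e * (b.out : G)⁻¹ :=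
        congrArg Subtype.val hxy
      obtain ⟨p, hp, q, hq, hpq, hdd⟩ := d.2
      obtain ⟨r, hr, s, hs, hrs, hee⟩ := e.2
      have h2 : ((b.out : G)⁻¹ * a.out) * d * ((b.out : G)⁻¹ * a.out)⁻¹ = e := by
        calc ((b.out : G)⁻¹ * a.out) * d * ((b.out : G)⁻¹ * a.out)⁻¹
            = (b.out : G)⁻¹ * ((a.out : G) * d * (a.out : G)⁻¹) * b.out := by group
          _ = (b.out : G)⁻¹ * ((b.out : G) * e * (b.out : G)⁻¹) * b.out := by rw [h1]
          _ = e := by group
      have h3 : (b.out : G)⁻¹ * a.out ∈ Subgroup.normalizer (C.E hex0 : Set G) := by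
        apply mem_norm_of_conj hpq hrs
        rw [← hdd, ← hee]
        exact h2
      have h4 : b = a := by
        rw [← QuotientGroup.out_eq' a, ← QuotientGroup.out_eq' b, QuotientGroup.eq]
        exact h3
      subst h4
      rw [Prod.mk.injEq]
      refine ⟨rfl, Subtype.ext ?_⟩
      exact mul_left_cancel (mul_right_cancel h1)
    have h1 : Nat.card (Orbits.orb (A0 E) (beta (bl E) 26)) = 868 := hB
    have h2 : Nat.card (duadsIn C O0) = 28 := ncard_duadsIn O0_mem
    rw [Nat.card_prod, h1, h2] at key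
    have h3 : Nat.card (N ⧸ S) = S.index := rfl
    omega
  rw [← S.card_mul_index]
  exact (Nat.mul_le_mul hScard hidx).trans (by norm_num)

end Cfsg.Agent.H857.T10Norm
end

-- part: H857/T10Compl
section
/-!
# The complement `L₅(2)` in `N_G(A(O))` (helper857)
-/

set_option autoImplicit false

open scoped Pointwise commutatorElement

namespace Cfsg.Agent.H857.T10Compl

open Matrix
open Cfsg Cfsg.Agent.J4.Beta
open Cfsg.Agent.J4Type
open Cfsg.Agent.H857.WGrp Cfsg.Agent.H857.Normal
open Cfsg.Agent.H857.T10Rel Cfsg.Agent.H857.T10Act Cfsg.Agent.H857.T10Model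

instance simple_SL : IsSimpleGroup (SpecialLinearGroup (Fin 5) (ZMod 2)) := by
  haveI := Cfsg.Agent.S0249.result (F := ZMod 2) 5 (by norm_num)
  let e := Cfsg.Agent.SylowL5.Coords.pslTwo
  haveI : Nontrivial (SpecialLinearGroup (Fin 5) (ZMod 2)) := e.symm.toEquiv.nontrivial
  exact IsSimpleGroup.isSimpleGroup_of_surjective e.toMonoidHom e.surjective

theorem not_isPGroup_SL : ¬ IsPGroup 2 (SpecialLinearGroup (Fin 5) (ZMod 2)) := by
  intro h
  obtain ⟨k, hk⟩ := IsPGroup.iff_card.1 h
  rw [Cfsg.Agent.SylowL5.Coords.card_SL] at hk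
  have h3 : 3 ∣ 2 ^ k := by rw [← hk]; norm_num
  have := Nat.Prime.dvd_of_dvd_pow Nat.prime_three h3
  norm_num at this

variable {G : Type*} [Group G] {X E : Fin 5 → Fin 5 → G}

/-- the root elements -/
def xx (X : Fin 5 → Fin 5 → G) (i j : Fin 5) (a : ZMod 2) : G := if a = 0 then 1 else X i j

theorem steinRel (h : Rel5 X E) : AGraded.SteinRel (xx X) where
  add := by
    intro i j hij a b
    have hcase : ∀ a : ZMod 2, a = 0 ∨ a = 1 := by decide
    have h10 : (1 : ZMod 2) ≠ 0 := by decide
    have h11 : (1 : ZMod 2) + 1 = 0 := by decide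
    rcases hcase a with rfl | rfl <;> rcases hcase b with rfl | rfl <;> unfold xx
    · simp
    · simp
    · simp
    · rw [h11, if_pos rfl, if_neg h10, h.sq i j hij]
  comm := by
    intro i j k l hij hkl hjk hil a b
    unfold xx
    split_ifs
    · rfl
    · rw [one_mul, mul_one]
    · rw [one_mul, mul_one]
    · exact h.comm i j k l hij hkl hjk hil
  br := by
    intro i j k hij hjk hik a b
    have hcase : ∀ a : ZMod 2, a = 0 ∨ a = 1 := by decide
    have h10 : (1 : ZMod 2) ≠ 0 := by decide
    rcases hcase a with rfl | rfl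
    · simp [xx]
    · rcases hcase b with rfl | rfl
      · simp [xx]
      · unfold xx
        rw [mul_one, if_neg h10, if_neg h10, if_neg h10, commutatorElement_def, X_inv h hij,
          X_inv h hjk]
        exact h.br i j k hij hjk hik

theorem E_ne (h : Rel5 X E) (hinj : ∀ v < 1024, beta (bl E) v = 1 → v = 0) {k l : Fin 5}
    (hkl : k ≠ l) : E k l ≠ 1 := by
  intro h1
  rw [← beta_bit h k l hkl] at h1
  have h2 : ∀ k l : Fin 5, k ≠ l → bit k l < 1024 ∧ bit k l ≠ 0 := by decide
  exact (h2 k l hkl).2 (hinj _ (h2 k l hkl).1 h1)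

theorem X_ne (h : Rel5 X E) (hinj : ∀ v < 1024, beta (bl E) v = 1 → v = 0) : X 0 1 ≠ 1 := by
  intro h1
  have h2 := h.act1 0 1 2 (by decide) (by decide) (by decide)
  rw [h1, one_mul, mul_one] at h2
  exact E_ne h hinj (k := 2) (l := 0) (by decide) (mul_eq_left.1 h2.symm)

/-- **the complement** -/
theorem exists_compl [Finite G] (h : Rel5 X E) (hinj : ∀ v < 1024, beta (bl E) v = 1 → v = 0)
    (hcard : Nat.card (A0 E) = 1024)
    (hN : Nat.card (Subgroup.normalizer (A0 E : Set G)) ≤ 2 ^ 10 * 9999360) :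
    ∃ B : Subgroup G, B ≤ Subgroup.normalizer (A0 E : Set G) ∧ B ⊓ A0 E = ⊥ ∧
      B ⊔ A0 E = Subgroup.normalizer (A0 E : Set G) ∧
      Nonempty (B ≃* SpecialLinearGroup (Fin 5) (ZMod 2)) := by
  obtain ⟨π, hπ, hr, hk⟩ := AGraded.exists_hom_finite (steinRel h) (by decide)
  have hker : π.ker = ⊥ := by
    have h1 := hk ⟨0, 1, by decide, 1, by
      unfold xx
      rw [if_neg (by decide : (1 : ZMod 2) ≠ 0)]
      exact X_ne h hinj⟩
    rw [Cfsg.Agent.SylowL5.Coords.center_eq_bot] at h1
    exact le_bot_iff.1 h1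
  have hπi : Function.Injective π := (MonoidHom.ker_eq_bot_iff π).1 hker
  have hBN : π.range ≤ Subgroup.normalizer (A0 E : Set G) := by
    rw [hr, Subgroup.closure_le]
    rintro _ ⟨i, j, hij, a, rfl⟩
    unfold xx
    split_ifs
    · exact one_mem _
    · exact X_norm h hij
  have hA2 : IsPGroup 2 (A0 E) := IsPGroup.of_card (n := 10) (by rw [hcard]; norm_num)
  have hinf : π.range ⊓ A0 E = ⊥ := by
    rw [eq_bot_iff]
    rintro _ ⟨⟨s, rfl⟩, hs⟩
    rw [Subgroup.mem_bot, Cfsg.Agent.J4.ClassesAbs.eq_one_of_mem (A0 E) hA2 π hπi not_isPGroup_SL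
      hBN s hs, map_one]
  refine ⟨π.range, hBN, hinf, ?_, ⟨(MonoidHom.ofInjective hπi).symm⟩⟩
  have hBc : Nat.card π.range = 9999360 := by
    rw [← Nat.card_congr (MonoidHom.ofInjective hπi).toEquiv, Cfsg.Agent.SylowL5.Coords.card_SL]
  apply Subgroup.eq_of_le_of_card_ge (sup_le hBN Subgroup.le_normalizer)
  refine hN.trans ?_
  have h1 : Nat.card (π.range × A0 E) ≤ Nat.card (π.range ⊔ A0 E : Subgroup G) := by
    refine Nat.card_le_card_of_injective (fun x : π.range × A0 E =>
      (⟨(x.1 : G) * (x.2 : G), (π.range ⊔ A0 E).mul_mem (Subgroup.mem_sup_left x.1.2)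
        (Subgroup.mem_sup_right x.2.2)⟩ : (π.range ⊔ A0 E : Subgroup G))) ?_
    rintro ⟨r, a⟩ ⟨s, b⟩ hxy
    have h2 : (r : G) * a = s * b := congrArg Subtype.val hxy
    have h3 : (s : G)⁻¹ * r = b * (a : G)⁻¹ := by
      rw [inv_mul_eq_iff_eq_mul, ← mul_assoc, ← h2, mul_inv_cancel_right]
    have h4 : (s : G)⁻¹ * r ∈ π.range ⊓ A0 E :=
      ⟨π.range.mul_mem (π.range.inv_mem s.2) r.2, by
        rw [h3]; exact (A0 E).mul_mem b.2 ((A0 E).inv_mem a.2)⟩
    rw [hinf, Subgroup.mem_bot] at h4
    have h5 : (r : G) = s := (inv_mul_eq_one.1 h4).symm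
    rw [h4] at h3
    have h6 : (a : G) = b := by
      have := mul_inv_eq_one.1 h3.symm
      exact this.symm
    rw [Prod.mk.injEq]
    exact ⟨Subtype.ext h5, Subtype.ext h6⟩
  rw [Nat.card_prod, hBc, hcard] at h1
  omega

end Cfsg.Agent.H857.T10Compl
end

-- part: H857/T10Main
section
/-!
# Self-centralising elementary abelian subgroups of order `2^10` in a group of type `J₄` (helper857)
-/

set_option autoImplicit false

open scoped Pointwise

namespace Cfsg.Agent.H857.T10Main

open Cfsg Cfsg.Agent.J4.Beta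
open Cfsg.Agent.J4Type
open Cfsg.Agent.H857.WGrp Cfsg.Agent.H857.Normal
open Cfsg.Agent.H857.T10Rel Cfsg.Agent.H857.T10Act Cfsg.Agent.H857.T10Model
open Cfsg.Agent.H857.Orbits (mem_smul_iff conj_mem_smul mem_normalizer_smul orb ncard_orb_smul)

variable {G : Type*} [Group G]

theorem isElem2_of {A : Subgroup G} (hA : Cfsg.IsElementaryAbelian 2 A) : IsElem2 A :=
  ⟨fun a ha => by rw [← pow_two]; exact hA.2 a ha,
    fun a ha b hb => congrArg Subtype.val (hA.1.1.1 ⟨a, ha⟩ ⟨b, hb⟩)⟩

theorem elementary_of {A : Subgroup G} (hA : ∀ a ∈ A, a * a = 1) : Cfsg.IsElementaryAbelian 2 A :=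
  ⟨⟨⟨fun a b => Subtype.ext (Card.comm_of_sq hA a a.2 b b.2)⟩⟩,
    fun a ha => by rw [pow_two]; exact hA a ha⟩

/-- a self-centralising subgroup of order `2^10` is not contained in a conjugate of `E` -/
theorem not_le [Finite G] (C : J4Type.Compl G) {A : Subgroup G}
    (hcard : Nat.card A = 2 ^ 10) (hself : Subgroup.centralizer (A : Set G) = A) (g : G) :
    ¬ MulAut.conj g • A ≤ C.E hex0 := by
  intro h
  have h1 : MulAut.conj g⁻¹ • C.E hex0 ≤ A := by
    rw [← hself]
    intro x hx
    rw [mem_smul_iff, inv_inv] at hx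
    rw [Subgroup.mem_centralizer_iff]
    intro a ha
    have h2 : g * a * g⁻¹ ∈ C.E hex0 := h (conj_mem_smul.2 ha)
    have h3 := (C.E_elem hex0 HexMax.hex0_isHex).2 _ h2 _ hx
    calc a * x = g⁻¹ * (g * a * g⁻¹ * (g * x * g⁻¹)) * g := by group
      _ = g⁻¹ * (g * x * g⁻¹ * (g * a * g⁻¹)) * g := by rw [h3]
      _ = x * a := by group
  have h2 := Subgroup.card_le_of_le h1
  rw [Cfsg.Agent.H856.TwoEleven.card_smul, C.E_card hex0 HexMax.hex0_isHex, hcard] at h2
  omega

/-- the data -/
structure Good (A : Subgroup G) : Prop where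
  elem : ∀ a ∈ A, a * a = 1
  card : Nat.card A = 2 ^ 10
  self : Subgroup.centralizer (A : Set G) = A
  conj : ∀ A' : Subgroup G, IsElem2 A' → Nat.card A' = 2 ^ 10 →
    Subgroup.centralizer (A' : Set G) = A' → ∃ g : G, MulAut.conj g • A' = A
  compl : ∃ B : Subgroup G, B ≤ Subgroup.normalizer (A : Set G) ∧ B ⊓ A = ⊥ ∧
      B ⊔ A = Subgroup.normalizer (A : Set G) ∧
      Nonempty (B ≃* Matrix.SpecialLinearGroup (Fin 5) (ZMod 2))
  irred : ∀ W : Subgroup G, W ≤ A →
    Subgroup.normalizer (A : Set G) ≤ Subgroup.normalizer (W : Set G) → W = ⊥ ∨ W = A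
  orbs : ∃ a b : G, a ∈ A ∧ b ∈ A ∧ (orb A a).ncard = 155 ∧ (orb A b).ncard = 868

theorem exists_good [Finite G] [IsSimpleGroup G] (hJ : Cfsg.IsOfJankoFourType G) :
    ∃ A : Subgroup G, Good A := by
  obtain ⟨z, P, h⟩ := hJ
  obtain ⟨Q, N, M, H, -, -⟩ := Cfsg.Agent.H856.ToHyp.exists_hyp h
  obtain ⟨C, -, -, -⟩ := Cfsg.Agent.H856.Bridge.exists_compl_of_hyp H
  obtain ⟨X, E, hR, hA, hcard, hz, hd, hinj⟩ := exists_model C
  have ha1 : beta (bl E) 1 ≠ 1 := fun h1 => by
    have := hinj 1 (by norm_num) h1
    omega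
  have hb1 : beta (bl E) 26 ≠ 1 := fun h1 => by
    have := hinj 26 (by norm_num) h1
    omega
  have hN := T10Norm.card_norm_le hR hA hcard hz hd ha1 hb1
  have hab : ¬ IsConj (beta (bl E) 1) (beta (bl E) 26) := by
    obtain ⟨p, -, q, -, hpq, hb⟩ := hd
    intro h1
    rw [hb] at h1
    exact C.duad_not_conj p q hpq (hz.trans h1)
  refine ⟨A0 E, ?_, ?_, ?_, ?_, ?_, ?_, ?_⟩
  · rw [hA]
    exact AG_sq O0_mem
  · rw [hcard]; norm_num
  · rw [hA]
    exact AG_cent C O0_mem
  · intro A' hA' hc hs
    rw [hA]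
    exact exists_eq C hA' hc (not_le C hc hs) O0_mem
  · exact T10Compl.exists_compl hR hinj hcard hN
  · intro W hW hNW
    exact T10Act.irred hR hcard hab ha1 hb1 hW hNW
  · obtain ⟨h1, h2⟩ := ncard_orb hR hcard hab ha1 hb1
    exact ⟨_, _, beta_mem_A0 1, beta_mem_A0 26, h1, h2⟩

theorem normalizer_smul (g : G) (A : Subgroup G) :
    Subgroup.normalizer ((MulAut.conj g • A : Subgroup G) : Set G) =
      MulAut.conj g • Subgroup.normalizer (A : Set G) := by
  ext x
  rw [mem_normalizer_smul, mem_smul_iff]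

/-- transport of the properties -/
theorem Good.smul [Finite G] {A : Subgroup G} (h : Good A) (g : G) : Good (MulAut.conj g • A) := by
  refine ⟨?_, ?_, ?_, ?_, ?_, ?_, ?_⟩
  · intro a ha
    rw [mem_smul_iff] at ha
    have h1 := h.elem _ ha
    calc a * a = g * (g⁻¹ * a * g * (g⁻¹ * a * g)) * g⁻¹ := by group
      _ = 1 := by rw [h1]; group
  · rw [Cfsg.Agent.H856.TwoEleven.card_smul, h.card]
  · ext x
    rw [mem_smul_iff]
    conv_rhs => rw [← h.self]
    rw [Subgroup.mem_centralizer_iff, Subgroup.mem_centralizer_iff]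
    constructor
    · intro hx a ha
      have h1 := hx (g * a * g⁻¹) (conj_mem_smul.2 ha)
      calc a * (g⁻¹ * x * g) = g⁻¹ * (g * a * g⁻¹ * x) * g := by group
        _ = g⁻¹ * (x * (g * a * g⁻¹)) * g := by rw [h1]
        _ = _ := by group
    · intro hx a ha
      rw [SetLike.mem_coe, mem_smul_iff] at ha
      have h1 := hx _ ha
      calc a * x = g * (g⁻¹ * a * g * (g⁻¹ * x * g)) * g⁻¹ := by group
        _ = g * (g⁻¹ * x * g * (g⁻¹ * a * g)) * g⁻¹ := by rw [h1]
        _ = _ := by group
  · intro A' h1 h2 h3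
    obtain ⟨k, hk⟩ := h.conj A' h1 h2 h3
    exact ⟨g * k, by rw [map_mul, mul_smul, hk]⟩
  · obtain ⟨B, h1, h2, h3, ⟨e⟩⟩ := h.compl
    refine ⟨MulAut.conj g • B, ?_, ?_, ?_, ?_⟩
    · rw [normalizer_smul]
      exact Subgroup.pointwise_smul_le_pointwise_smul_iff.2 h1
    · rw [← Subgroup.smul_inf, h2, Subgroup.smul_bot]
    · rw [← Subgroup.smul_sup, h3, normalizer_smul]
    · exact ⟨(Subgroup.equivSMul (MulAut.conj g) B).symm.trans e⟩
  · intro W hW hN
    have h1 : MulAut.conj g⁻¹ • W ≤ A := by
      rw [map_inv, Subgroup.pointwise_smul_subset_iff, inv_inv]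
      exact hW
    have h2 : Subgroup.normalizer (A : Set G) ≤
        Subgroup.normalizer ((MulAut.conj g⁻¹ • W : Subgroup G) : Set G) := by
      rw [normalizer_smul]
      intro x hx
      rw [mem_smul_iff, inv_inv]
      apply hN
      rw [mem_normalizer_smul]
      have h3 : g⁻¹ * (g * x * g⁻¹) * g = x := by group
      rwa [h3]
    have h3 : W = MulAut.conj g • (MulAut.conj g⁻¹ • W) := by
      rw [map_inv, smul_inv_smul]
    rcases h.irred _ h1 h2 with h4 | h4
    · left
      rw [h3, h4, Subgroup.smul_bot]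
    · right
      rw [h3, h4]
  · obtain ⟨a, b, ha, hb, h1, h2⟩ := h.orbs
    refine ⟨g * a * g⁻¹, g * b * g⁻¹, conj_mem_smul.2 ha, conj_mem_smul.2 hb, ?_, ?_⟩
    · rw [ncard_orb_smul, h1]
    · rw [ncard_orb_smul, h2]

/-- every self-centralising elementary abelian subgroup of order `2^10` has these properties -/
theorem good_of [Finite G] {A A' : Subgroup G} (h : Good A) (h1 : IsElem2 A')
    (h2 : Nat.card A' = 2 ^ 10) (h3 : Subgroup.centralizer (A' : Set G) = A') : Good A' := by
  obtain ⟨g, hg⟩ := h.conj A' h1 h2 h3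
  have h4 : A' = MulAut.conj g⁻¹ • A := by rw [← hg, map_inv, inv_smul_smul]
  rw [h4]
  exact h.smul g⁻¹

end Cfsg.Agent.H857.T10Main
end
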